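import Mathlib.AlgebraicGeometry.Morphisms.Separated
import Mathlib.AlgebraicGeometry.Morphisms.Affine
import Mathlib.AlgebraicGeometry.Morphisms.ClosedImmersion
import Mathlib.AlgebraicGeometry.Morphisms.FiniteType

/-!
Separatedness and generation of rings of sections on intersections of affine opens.
-/

set_option autoImplicit false

open CategoryTheory Limits AlgebraicGeometry TopologicalSpace

universe u

namespace Groth.Agent.Lead.Lim

theorem closure_of_isPushout {R A B P : CommRingCat.{u}} {f : R ⟶ A} {g : R ⟶ B} {a : A ⟶ P} {b : B ⟶ P}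
    (h : IsPushout f g a b) : Subring.closure (Set.range a ∪ Set.range b) = ⊤ := by
  set S := Subring.closure (Set.range a ∪ Set.range b)
  let a' : A ⟶ CommRingCat.of S :=
    CommRingCat.ofHom (a.hom.codRestrict S fun x => Subring.subset_closure (Or.inl ⟨x, rfl⟩))
  let b' : B ⟶ CommRingCat.of S :=
    CommRingCat.ofHom (b.hom.codRestrict S fun x => Subring.subset_closure (Or.inr ⟨x, rfl⟩))
  have w : f ≫ a' = g ≫ b' := by
    ext x
    exact ConcreteCategory.congr_hom h.w x
  have e : h.desc a' b' w ≫ CommRingCat.ofHom S.subtype = 𝟙 P := by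
    apply h.hom_ext
    · rw [h.inl_desc_assoc, Category.comp_id]; rfl
    · rw [h.inr_desc_assoc, Category.comp_id]; rfl
  refine eq_top_iff.2 fun x _ => ?_
  have e2 : (h.desc a' b' w x).1 = x := ConcreteCategory.congr_hom e x
  have h2 := (h.desc a' b' w x).2
  rw [e2] at h2
  exact h2

theorem closure_map_top {A : Type*} {B : Type*} [CommRing A] [CommRing B] (φ : A →+* B) (hφ : Function.Surjective φ)
    (s : Set A) (t : Set B) (hs : Subring.closure s = ⊤) (hst : φ '' s ⊆ Subring.closure t) :
    Subring.closure t = ⊤ := by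
  refine eq_top_iff.2 fun y _ => ?_
  obtain ⟨x, rfl⟩ := hφ y
  have : x ∈ Subring.closure s := hs ▸ Subring.mem_top x
  exact (Subring.closure_le (t := (Subring.closure t).comap φ)).2 (fun z hz => hst ⟨z, hz, rfl⟩) this

/-- the map to the absolute product -/
noncomputable abbrev toProd {U V W : Scheme.{u}} (a : W ⟶ U) (b : W ⟶ V) :
    W ⟶ pullback (terminal.from U) (terminal.from V) :=
  pullback.lift a b (terminal.hom_ext _ _)

/-- generation on `W` by sections of affine `U` and `V` -/
theorem isClosedImmersion_lift_iff {U V W : Scheme.{u}} [IsAffine U] [IsAffine V] (a : W ⟶ U) (b : W ⟶ V) :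
    IsClosedImmersion (toProd a b) →
      Subring.closure (Set.range a.appTop ∪ Set.range b.appTop) = ⊤ := by
  intro h
  have hp := closure_of_isPushout (isPushout_appTop_of_isPullback (IsPullback.of_hasPullback (terminal.from U) (terminal.from V)))
  let f := toProd a b
  have hs : Function.Surjective f.appTop :=
    ((HasAffineProperty.iff_of_isAffine (P := @IsClosedImmersion)).1 h).2
  refine closure_map_top f.appTop.hom hs _ _ hp ?_
  rintro _ ⟨_, (⟨x, rfl⟩ | ⟨x, rfl⟩), rfl⟩
  · refine Subring.subset_closure (Or.inl ⟨x, ?_⟩)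
    show a.appTop x = ((pullback.fst (terminal.from U) (terminal.from V)).appTop ≫ f.appTop) x
    rw [← Scheme.Hom.comp_appTop, pullback.lift_fst]
  · refine Subring.subset_closure (Or.inr ⟨x, ?_⟩)
    show b.appTop x = ((pullback.snd (terminal.from U) (terminal.from V)).appTop ≫ f.appTop) x
    rw [← Scheme.Hom.comp_appTop, pullback.lift_snd]

theorem isClosedImmersion_lift_of_closure {U V W : Scheme.{u}} [IsAffine U] [IsAffine V] [IsAffine W]
    (a : W ⟶ U) (b : W ⟶ V) (h : Subring.closure (Set.range a.appTop ∪ Set.range b.appTop) = ⊤) :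
    IsClosedImmersion (toProd a b) := by
  let f := toProd a b
  refine (HasAffineProperty.iff_of_isAffine (P := @IsClosedImmersion)).2 ⟨inferInstance, ?_⟩
  refine RingHom.range_eq_top.1 (eq_top_iff.2 (h.ge.trans (Subring.closure_le.2 ?_)))
  rintro _ (⟨x, rfl⟩ | ⟨x, rfl⟩)
  · refine ⟨(pullback.fst (terminal.from U) (terminal.from V)).appTop x, ?_⟩
    show ((pullback.fst (terminal.from U) (terminal.from V)).appTop ≫ f.appTop) x = _
    rw [← Scheme.Hom.comp_appTop, pullback.lift_fst]
  · refine ⟨(pullback.snd (terminal.from U) (terminal.from V)).appTop x, ?_⟩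
    show ((pullback.snd (terminal.from U) (terminal.from V)).appTop ≫ f.appTop) x = _
    rw [← Scheme.Hom.comp_appTop, pullback.lift_snd]

variable {X : Scheme.{u}}

/-- restriction of sections -/
noncomputable abbrev res (U V : X.Opens) (e : V ≤ U) : Γ(X, U) →+* Γ(X, V) := (X.presheaf.map (homOfLE e).op).hom

theorem homOfLE_appTop_eq {U V : X.Opens} (e : V ≤ U) :
    (X.homOfLE e).appTop ≫ V.topIso.hom = U.topIso.hom ≫ X.presheaf.map (homOfLE e).op := by
  simp only [Scheme.homOfLE_appTop, Scheme.Opens.topIso_hom]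
  erw [← Functor.map_comp, ← Functor.map_comp]
  rfl

theorem closure_appTop_iff {U V W : X.Opens} (ea : W ≤ U) (eb : W ≤ V) :
    Subring.closure (Set.range (X.homOfLE ea).appTop ∪ Set.range (X.homOfLE eb).appTop) = ⊤ ↔
      Subring.closure (Set.range (res U W ea) ∪ Set.range (res V W eb)) = ⊤ := by
  constructor
  · intro h
    refine closure_map_top W.topIso.hom.hom (ConcreteCategory.bijective_of_isIso W.topIso.hom).2 _ _ h ?_
    rintro _ ⟨_, (⟨x, rfl⟩ | ⟨x, rfl⟩), rfl⟩
    · exact Subring.subset_closure (Or.inl ⟨U.topIso.hom x, (ConcreteCategory.congr_hom (homOfLE_appTop_eq ea) x).symm⟩)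
    · exact Subring.subset_closure (Or.inr ⟨V.topIso.hom x, (ConcreteCategory.congr_hom (homOfLE_appTop_eq eb) x).symm⟩)
  · intro h
    refine closure_map_top W.topIso.inv.hom (ConcreteCategory.bijective_of_isIso W.topIso.inv).2 _ _ h ?_
    rintro _ ⟨_, (⟨x, rfl⟩ | ⟨x, rfl⟩), rfl⟩
    · obtain ⟨y, rfl⟩ := (ConcreteCategory.bijective_of_isIso U.topIso.hom).2 x
      refine Subring.subset_closure (Or.inl ⟨y, (ConcreteCategory.bijective_of_isIso W.topIso.hom).1 ?_⟩)
      show ((X.homOfLE ea).appTop ≫ W.topIso.hom) y = W.topIso.hom (W.topIso.inv _)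
      rw [homOfLE_appTop_eq, Iso.inv_hom_id_apply]
      rfl
    · obtain ⟨y, rfl⟩ := (ConcreteCategory.bijective_of_isIso V.topIso.hom).2 x
      refine Subring.subset_closure (Or.inr ⟨y, (ConcreteCategory.bijective_of_isIso W.topIso.hom).1 ?_⟩)
      show ((X.homOfLE eb).appTop ≫ W.topIso.hom) y = W.topIso.hom (W.topIso.inv _)
      rw [homOfLE_appTop_eq, Iso.inv_hom_id_apply]
      rfl

/-- separated: sections on two affines generate those on the intersection -/
theorem closure_eq_top_of_isSeparated [X.IsSeparated] {U V : X.Opens} (hU : IsAffineOpen U) (hV : IsAffineOpen V) :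
    Subring.closure (Set.range (res U (U ⊓ V) inf_le_left) ∪ Set.range (res V (U ⊓ V) inf_le_right)) = ⊤ := by
  have : IsAffine U := hU
  have : IsAffine V := hV
  rw [← closure_appTop_iff]
  apply isClosedImmersion_lift_iff
  have e : toProd (X.homOfLE (inf_le_left : U ⊓ V ≤ U)) (X.homOfLE inf_le_right) =
      (isPullback_opens_inf U V).isoPullback.hom ≫ pullback.mapDesc U.ι V.ι (terminal.from X) ≫
        (pullback.congrHom (terminal.hom_ext _ _) (terminal.hom_ext _ _)).hom := by
    apply pullback.hom_ext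
    · simp only [toProd, pullback.mapDesc, pullback.map, pullback.congrHom_hom, Category.assoc]
      refine (pullback.lift_fst _ _ _).trans ?_
      refine Eq.trans ?_ (congrArg (fun t => (isPullback_opens_inf U V).isoPullback.hom ≫ t) ((congrArg (fun t => _ ≫ t) (pullback.lift_fst _ _ _)).trans ((Category.assoc _ _ _).symm.trans ((congrArg (· ≫ _) (pullback.lift_fst _ _ _)).trans (Category.assoc _ _ _))))).symm
      simp
    · simp only [toProd, pullback.mapDesc, pullback.map, pullback.congrHom_hom, Category.assoc]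
      refine (pullback.lift_snd _ _ _).trans ?_
      erw [pullback.lift_snd, pullback.lift_snd_assoc]
      simp
  rw [e]
  infer_instance

/-- criterion for separatedness -/
theorem isSeparated_of_cover {J : Type*} (V : J → X.Opens) (hV : IsOpenCover V) (hA : ∀ a, IsAffineOpen (V a))
    (h : ∀ a b, IsAffineOpen (V a ⊓ V b) ∧
      Subring.closure (Set.range (res (V a) (V a ⊓ V b) inf_le_left) ∪
        Set.range (res (V b) (V a ⊓ V b) inf_le_right)) = ⊤) :
    X.IsSeparated := by
  refine ⟨⟨?_⟩⟩
  let f := terminal.from X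
  let W : J × J → (pullback f f).Opens := fun p => pullback.fst f f ⁻¹ᵁ V p.1 ⊓ pullback.snd f f ⁻¹ᵁ V p.2
  have hW : (⨆ p, W p) = ⊤ := eq_top_iff.2 fun z _ => by
    obtain ⟨a, ha⟩ := hV.exists_mem (pullback.fst f f z)
    obtain ⟨b, hb⟩ := hV.exists_mem (pullback.snd f f z)
    exact Opens.mem_iSup.2 ⟨(a, b), ha, hb⟩
  refine IsZariskiLocalAtTarget.of_iSup_eq_top W hW fun p => ?_
  obtain ⟨a, b⟩ := p
  obtain ⟨hab, hcl⟩ := h a b
  have : IsAffine (V a) := hA a
  have : IsAffine (V b) := hA b
  have : IsAffine (V a ⊓ V b : X.Opens) := hab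
  have hci := isClosedImmersion_lift_of_closure _ _
    ((closure_appTop_iff (inf_le_left : V a ⊓ V b ≤ V a) (inf_le_right : V a ⊓ V b ≤ V b)).2 hcl)
  let m := pullback.map (terminal.from (V a : Scheme.{u})) (terminal.from (V b : Scheme.{u})) f f (V a).ι (V b).ι (𝟙 _)
    (terminal.hom_ext _ _) (terminal.hom_ext _ _)
  have hsq : IsPullback (X.homOfLE (le_refl (V a ⊓ V b)) ≫ (V a ⊓ V b : X.Opens).ι)
      (toProd (X.homOfLE inf_le_left) (X.homOfLE inf_le_right)) (pullback.diagonal f) m := by
    have hmr : Set.range m = (W (a, b) : Set _) := by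
      rw [Scheme.Pullback.range_map]
      simp [W, f, Scheme.Opens.range_ι]
    refine (IsOpenImmersion.isPullback _ (X.homOfLE (le_refl (V a ⊓ V b)) ≫ (V a ⊓ V b : X.Opens).ι) m _ ?_ ?_).flip
    · apply pullback.hom_ext
      · simp only [m, toProd, pullback.map, Category.assoc, pullback.diagonal_fst, Category.comp_id, Scheme.homOfLE_ι]
        refine Eq.trans ?_ (congrArg (_ ≫ ·) (pullback.lift_fst _ _ _)).symm
        refine Eq.trans ?_ (Category.assoc _ _ _)
        refine Eq.trans ?_ (congrArg (· ≫ _) (pullback.lift_fst _ _ _)).symm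
        simp
      · simp only [m, toProd, pullback.map, Category.assoc, pullback.diagonal_snd, Category.comp_id, Scheme.homOfLE_ι]
        refine Eq.trans ?_ (congrArg (_ ≫ ·) (pullback.lift_snd _ _ _)).symm
        refine Eq.trans ?_ (Category.assoc _ _ _)
        refine Eq.trans ?_ (congrArg (· ≫ _) (pullback.lift_snd _ _ _)).symm
        simp
    · apply Opens.ext
      show (pullback.diagonal f) ⁻¹' Set.range m = Set.range (X.homOfLE (le_refl (V a ⊓ V b)) ≫ (V a ⊓ V b : X.Opens).ι)
      rw [hmr, Scheme.homOfLE_ι, Scheme.Opens.range_ι]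
      ext z
      simp [W, ← Scheme.Hom.comp_apply]
  haveI : IsOpenImmersion m := inferInstance
  have hmr : m.opensRange = W (a, b) := by
    apply Opens.ext
    show Set.range m = _
    rw [Scheme.Pullback.range_map]
    simp [W, f, Scheme.Opens.range_ι]
  rw [← hmr, MorphismProperty.arrow_mk_iso_iff @IsClosedImmersion (morphismRestrictOpensRange (pullback.diagonal f) m),
    ← MorphismProperty.cancel_left_of_respectsIso @IsClosedImmersion hsq.isoPullback.hom,
    IsPullback.isoPullback_hom_snd]
  exact hci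

theorem exists_finite_gen {U W : X.Opens} (e : W ≤ U) (hU : IsAffineOpen U) (hW : IsAffineOpen W) :
    ∃ s : Finset Γ(X, W), Subring.closure (Set.range (res U W e) ∪ ↑s) = ⊤ := by
  have h := LocallyOfFiniteType.finiteType_appLE (𝟙 X) hU hW (show W ≤ 𝟙 X ⁻¹ᵁ U from e)
  simp only [Scheme.Hom.appLE, Scheme.Hom.id_app, Category.id_comp] at h
  algebraize [res U W e]
  obtain ⟨s, hs⟩ := (h : Algebra.FiniteType Γ(X, U) Γ(X, W)).out
  refine ⟨s, eq_top_iff.2 fun x _ => ?_⟩
  have hx : x ∈ (Algebra.adjoin Γ(X, U) (s : Set Γ(X, W))).toSubring := by erw [hs]; trivial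
  rw [Algebra.adjoin_eq_ring_closure] at hx
  exact hx

/-- affine base change generates sections over a smaller affine -/
theorem closure_eq_top_preimage {Y : Scheme.{u}} (g : X ⟶ Y) [IsAffineHom g] {V V' : Y.Opens} (e : V' ≤ V)
    (hV : IsAffineOpen V) (hV' : IsAffineOpen V') :
    Subring.closure (Set.range (res (g ⁻¹ᵁ V) (g ⁻¹ᵁ V') (g.preimage_mono e)) ∪ Set.range (g.app V')) = ⊤ := by
  have : IsAffine V := hV
  have : IsAffine V' := hV'
  have : IsAffine (g ⁻¹ᵁ V) := hV.preimage g
  have hw : g ∣_ V' ≫ Y.homOfLE e = X.homOfLE (g.preimage_mono e) ≫ g ∣_ V := by simp [← cancel_mono V.ι]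
  have hsq : IsPullback (X.homOfLE (g.preimage_mono e)) (g ∣_ V') (g ∣_ V) (Y.homOfLE e) :=
    IsPullback.of_right (by simpa using (isPullback_morphismRestrict g V').flip) hw.symm
      (isPullback_morphismRestrict g V).flip
  refine closure_map_top (g ⁻¹ᵁ V').topIso.hom.hom (ConcreteCategory.bijective_of_isIso (g ⁻¹ᵁ V').topIso.hom).2 _ _
    (closure_of_isPushout (isPushout_appTop_of_isPullback hsq)) ?_
  rintro _ ⟨_, (⟨x, rfl⟩ | ⟨x, rfl⟩), rfl⟩
  · exact Subring.subset_closure (Or.inl ⟨(g ⁻¹ᵁ V).topIso.hom x, (ConcreteCategory.congr_hom (homOfLE_appTop_eq (g.preimage_mono e)) x).symm⟩)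
  · refine Subring.subset_closure (Or.inr ⟨V'.topIso.hom x, ?_⟩)
    show (V'.topIso.hom ≫ g.app V') x = ((g ∣_ V').appTop ≫ (g ⁻¹ᵁ V').topIso.hom) x
    congr 2
    simp [Scheme.Hom.app_eq_appLE]
    erw [Scheme.Hom.map_appLE, Scheme.Hom.appLE_map]

end Groth.Agent.Lead.Lim
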