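import Groth.Agent.Lead.Lim.Structure
import Groth.Agent.Lead.Lim.SepGen
import Mathlib.AlgebraicGeometry.Morphisms.Finite
import Mathlib.Algebra.Polynomial.Lifts

/-!
Closed immersions and finite morphisms of finite type descend along limits.
-/

set_option autoImplicit false
set_option backward.isDefEq.respectTransparency false
set_option backward.defeqAttrib.useBackward true

open CategoryTheory Limits AlgebraicGeometry TopologicalSpace Polynomial

universe u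

namespace Groth.Agent.Lead.Lim

theorem appTop_comm {W X Y Z : Scheme.{u}} (a : W ⟶ X) (b : X ⟶ Z) (a' : W ⟶ Y) (b' : Y ⟶ Z) (h : a ≫ b = a' ≫ b')
    (z : Γ(Z, ⊤)) : a.appTop (b.appTop z) = a'.appTop (b'.appTop z) := by
  rw [← ConcreteCategory.comp_apply, ← ConcreteCategory.comp_apply, ← Scheme.Hom.comp_appTop, ← Scheme.Hom.comp_appTop, h]

variable {I : Type u} [Category.{u} I] [IsCofiltered I] (D : I ⥤ Scheme.{u}) (c : Cone D) (hc : IsLimit c)
  [∀ {i j : I} (f : i ⟶ j), IsAffineHom (D.map f)] {i₀ : I} {X₀ : Scheme.{u}} (f₀ : X₀ ⟶ D.obj i₀)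

/-- transition map between base changes of `f₀` -/
noncomputable abbrev tra {j k : I} (φ : j ⟶ i₀) (ψ : k ⟶ j) :
    pullback (D.map (ψ ≫ φ)) f₀ ⟶ pullback (D.map φ) f₀ :=
  pullback.map _ _ _ _ (D.map ψ) (𝟙 _) (𝟙 _) (by simp) (by simp)

/-- projection from the limit base change -/
noncomputable abbrev prj {j : I} (φ : j ⟶ i₀) : pullback (c.π.app i₀) f₀ ⟶ pullback (D.map φ) f₀ :=
  pullback.map _ _ _ _ (c.π.app j) (𝟙 _) (𝟙 _) (by simp) (by simp)

theorem prj_tra {j k : I} (φ : j ⟶ i₀) (ψ : k ⟶ j) : prj D c f₀ (ψ ≫ φ) ≫ tra D f₀ φ ψ = prj D c f₀ φ := by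
  ext <;> simp [pullback.map]

include hc in
theorem exists_tra_eq [CompactSpace X₀] {j : I} (φ : j ⟶ i₀) (s t : Γ(pullback (D.map φ) f₀, ⊤))
    (h : (prj D c f₀ φ).appTop s = (prj D c f₀ φ).appTop t) :
    ∃ (k : I) (ψ : k ⟶ j), (tra D f₀ φ ψ).appTop s = (tra D f₀ φ ψ).appTop t := by
  let E := Groth.Agent.Lim.Topo.bcDiagram D f₀
  haveI : ∀ {a b : Over i₀} (w : a ⟶ b), IsAffineHom (E.map w) := fun w =>
    Groth.Agent.Lim.Topo.isAffineHom_bcDiagram_map D f₀ w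
  haveI hA : IsAffineHom (pullback.snd (D.map φ) f₀) :=
    MorphismProperty.pullback_snd (P := @IsAffineHom) _ _ (inferInstance : IsAffineHom (D.map φ))
  haveI : QuasiCompact (pullback.snd (D.map φ) f₀) := @instQuasiCompactOfIsAffineHom _ _ _ hA
  haveI : CompactSpace (E.obj (Over.mk φ)) := QuasiCompact.compactSpace_of_compactSpace (pullback.snd (D.map φ) f₀)
  obtain ⟨b, w, hw⟩ := exists_app_map_eq_map_of_isLimit E _ (Groth.Agent.Lim.Topo.isLimitBcCone D c hc f₀)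
    (i := Over.mk φ) (U := ⊤) (by simpa using isCompact_univ) s t h
  refine ⟨b.left, w.left, ?_⟩
  have e : tra D f₀ φ w.left = pullback.map (D.map (w.left ≫ φ)) f₀ (D.map b.hom) f₀ (𝟙 _) (𝟙 _) (𝟙 _)
      (by simp [← Over.w w]) (by simp) ≫ E.map w := by
    ext <;> simp [E, Groth.Agent.Lim.Topo.bcDiagram, pullback.map]
  rw [e, Scheme.Hom.comp_appTop, ConcreteCategory.comp_apply, ConcreteCategory.comp_apply]
  exact congrArg _ hw

include hc in
theorem exists_lift_top [∀ i, IsAffine (D.obj i)] (a : Γ(c.pt, ⊤)) :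
    ∃ (j : I) (φ : j ⟶ i₀) (a' : Γ(D.obj j, ⊤)), (c.π.app j).appTop a' = a := by
  obtain ⟨i, t, ht⟩ := exists_appTop_π_eq_of_isAffine_of_isLimit D c hc a
  obtain ⟨j, φ, ψ⟩ := IsCofilteredOrEmpty.cone_objs i₀ i
  obtain ⟨ψ', -⟩ := ψ
  refine ⟨j, φ, (D.map ψ').appTop t, ?_⟩
  rw [← ConcreteCategory.comp_apply, ← Scheme.Hom.comp_appTop, c.w]
  exact ht

theorem fst_tra_apply {j k : I} (φ : j ⟶ i₀) (ψ : k ⟶ j) (a : Γ(D.obj j, ⊤)) :
    (tra D f₀ φ ψ).appTop ((pullback.fst (D.map φ) f₀).appTop a) =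
      (pullback.fst (D.map (ψ ≫ φ)) f₀).appTop ((D.map ψ).appTop a) := by
  refine appTop_comm _ _ _ _ ?_ _
  simp [pullback.map]

theorem snd_tra_apply {j k : I} (φ : j ⟶ i₀) (ψ : k ⟶ j) (b : Γ(X₀, ⊤)) :
    (tra D f₀ φ ψ).appTop ((pullback.snd (D.map φ) f₀).appTop b) = (pullback.snd (D.map (ψ ≫ φ)) f₀).appTop b := by
  rw [← ConcreteCategory.comp_apply, ← Scheme.Hom.comp_appTop, pullback.lift_snd, Category.comp_id]

theorem fst_prj_apply {j : I} (φ : j ⟶ i₀) (a : Γ(D.obj j, ⊤)) :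
    (prj D c f₀ φ).appTop ((pullback.fst (D.map φ) f₀).appTop a) =
      (pullback.fst (c.π.app i₀) f₀).appTop ((c.π.app j).appTop a) := by
  refine appTop_comm _ _ _ _ ?_ _
  exact pullback.lift_fst _ _ _

theorem snd_prj_apply {j : I} (φ : j ⟶ i₀) (b : Γ(X₀, ⊤)) :
    (prj D c f₀ φ).appTop ((pullback.snd (D.map φ) f₀).appTop b) = (pullback.snd (c.π.app i₀) f₀).appTop b := by
  rw [← ConcreteCategory.comp_apply, ← Scheme.Hom.comp_appTop, pullback.lift_snd, Category.comp_id]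

include hc in
/-- an element in the range at the limit is in the range at some stage -/
theorem exists_mem_range [CompactSpace X₀] [∀ i, IsAffine (D.obj i)] (b : Γ(X₀, ⊤))
    (hb : (pullback.snd (c.π.app i₀) f₀).appTop b ∈ (pullback.fst (c.π.app i₀) f₀).appTop.hom.range) :
    ∃ (j : I) (φ : j ⟶ i₀), (pullback.snd (D.map φ) f₀).appTop b ∈ (pullback.fst (D.map φ) f₀).appTop.hom.range := by
  obtain ⟨a, ha⟩ := hb
  obtain ⟨j, φ, a', rfl⟩ := exists_lift_top D c hc (i₀ := i₀) a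
  obtain ⟨k, ψ, h⟩ := exists_tra_eq D c hc f₀ φ ((pullback.fst (D.map φ) f₀).appTop a')
    ((pullback.snd (D.map φ) f₀).appTop b) (by rw [fst_prj_apply, snd_prj_apply]; exact ha)
  rw [fst_tra_apply, snd_tra_apply] at h
  exact ⟨k, ψ ≫ φ, (D.map ψ).appTop a', h⟩

include hc in
/-- an element integral at the limit is integral at some stage -/
theorem exists_isIntegralElem [CompactSpace X₀] [∀ i, IsAffine (D.obj i)] (b : Γ(X₀, ⊤))
    (hb : (pullback.fst (c.π.app i₀) f₀).appTop.hom.IsIntegralElem ((pullback.snd (c.π.app i₀) f₀).appTop b)) :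
    ∃ (j : I) (φ : j ⟶ i₀),
      (pullback.fst (D.map φ) f₀).appTop.hom.IsIntegralElem ((pullback.snd (D.map φ) f₀).appTop b) := by
  classical
  obtain ⟨p, hp, hpb⟩ := hb
  choose J ψ a ha using fun n : p.support => exists_lift_top D c hc (i₀ := i₀) (p.coeff n)
  obtain ⟨j, φ, g, hg⟩ := IsCofiltered.wideCospan (I := p.support) ψ
  have hl : p ∈ Polynomial.lifts (c.π.app j).appTop.hom := by
    rw [lifts_iff_coeff_lifts]
    intro n
    by_cases hn : n ∈ p.support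
    · refine ⟨(D.map (g ⟨n, hn⟩)).appTop (a ⟨n, hn⟩), ?_⟩
      show (c.π.app j).appTop _ = _
      rw [← ConcreteCategory.comp_apply, ← Scheme.Hom.comp_appTop, c.w]
      exact ha _
    · exact ⟨0, by rw [map_zero, Polynomial.notMem_support_iff.1 hn]⟩
  obtain ⟨q, hq, -, hqm⟩ := lifts_and_natDegree_eq_and_monic hl hp
  have hc1 : (prj D c f₀ φ).appTop.hom.comp (pullback.fst (D.map φ) f₀).appTop.hom =
      (pullback.fst (c.π.app i₀) f₀).appTop.hom.comp (c.π.app j).appTop.hom :=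
    RingHom.ext fun x => fst_prj_apply D c f₀ φ x
  obtain ⟨k, χ, h⟩ := exists_tra_eq D c hc f₀ φ
    (q.eval₂ (pullback.fst (D.map φ) f₀).appTop.hom ((pullback.snd (D.map φ) f₀).appTop b)) 0 (by
      rw [map_zero]
      show (prj D c f₀ φ).appTop.hom _ = _
      rw [Polynomial.hom_eval₂, hc1, ← Polynomial.eval₂_map, hq]
      show Polynomial.eval₂ _ ((prj D c f₀ φ).appTop _) p = _
      rw [snd_prj_apply]
      exact hpb)
  refine ⟨k, χ ≫ φ, q.map (D.map χ).appTop.hom, hqm.map _, ?_⟩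
  have hc2 : (pullback.fst (D.map (χ ≫ φ)) f₀).appTop.hom.comp (D.map χ).appTop.hom =
      (tra D f₀ φ χ).appTop.hom.comp (pullback.fst (D.map φ) f₀).appTop.hom :=
    RingHom.ext fun x => (fst_tra_apply D f₀ φ χ x).symm
  rw [Polynomial.eval₂_map, hc2, ← snd_tra_apply D f₀ φ χ b]
  show Polynomial.eval₂ _ ((tra D f₀ φ χ).appTop.hom _) q = 0
  rw [← Polynomial.hom_eval₂]
  exact h.trans (map_zero _)

theorem eq_top_of_gen [IsAffine X₀] [∀ i, IsAffine (D.obj i)] (s : Set Γ(X₀, ⊤))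
    (hs : Subring.closure (Set.range f₀.appTop ∪ s) = ⊤) {j : I} (φ : j ⟶ i₀)
    (K : Subring Γ(pullback (D.map φ) f₀, ⊤)) (hK : ∀ a, (pullback.fst (D.map φ) f₀).appTop a ∈ K)
    (hKs : ∀ b ∈ s, (pullback.snd (D.map φ) f₀).appTop b ∈ K) : K = ⊤ := by
  refine eq_top_iff.2 ((closure_of_isPushout (isPushout_appTop_of_isPullback
    (IsPullback.of_hasPullback (D.map φ) f₀))).ge.trans (Subring.closure_le.2 ?_))
  rintro _ (⟨a, rfl⟩ | ⟨b, rfl⟩)
  · exact hK a
  · refine (Subring.closure_le (t := K.comap (pullback.snd (D.map φ) f₀).appTop.hom)).2 ?_ (hs.ge (Subring.mem_top b))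
    rintro _ (⟨x, rfl⟩ | hb)
    · show (pullback.snd (D.map φ) f₀).appTop (f₀.appTop x) ∈ K
      rw [← ConcreteCategory.comp_apply, ← Scheme.Hom.comp_appTop, ← pullback.condition, Scheme.Hom.comp_appTop,
        ConcreteCategory.comp_apply]
      exact hK _
    · exact hKs _ hb

include hc in
theorem exists_isClosedImmersion_affine [IsAffine X₀] [∀ i, IsAffine (D.obj i)] [LocallyOfFiniteType f₀]
    (h : IsClosedImmersion (pullback.fst (c.π.app i₀) f₀)) :
    ∃ (j : I) (φ : j ⟶ i₀), IsClosedImmersion (pullback.fst (D.map φ) f₀) := by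
  classical
  haveI := isAffineHom_π_app _ _ hc i₀
  haveI : IsAffine c.pt := isAffine_of_isAffineHom (c.π.app i₀)
  haveI : IsAffine (((Functor.const I).obj c.pt).obj i₀) := ‹IsAffine c.pt›
  obtain ⟨s, hs⟩ : ∃ s : Finset Γ(X₀, ⊤), Subring.closure (Set.range f₀.appTop ∪ (s : Set Γ(X₀, ⊤))) = ⊤ := by
    have := exists_finite_gen_appLE f₀ (le_refl (f₀ ⁻¹ᵁ ⊤)) (isAffineOpen_top _) (isAffineOpen_top X₀)
    rw [← Scheme.Hom.app_eq_appLE] at this
    exact this
  choose J φ hφ using fun b : (s : Set Γ(X₀, ⊤)) => exists_mem_range D c hc f₀ b.1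
    ((pullback.fst (c.π.app i₀) f₀).app_surjective ⊤ (isAffineOpen_top _) _)
  obtain ⟨j, φ', g, hg⟩ := IsCofiltered.wideCospan (I := (s : Set Γ(X₀, ⊤))) φ
  refine ⟨j, φ', ?_⟩
  refine (HasAffineProperty.iff_of_isAffine (P := @IsClosedImmersion)).2 ⟨inferInstance, ?_⟩
  refine RingHom.range_eq_top.1 (eq_top_of_gen D f₀ s hs φ' _ (fun a => ⟨a, rfl⟩) fun b hb => ?_)
  obtain ⟨a, ha⟩ := hφ ⟨b, hb⟩
  rw [← hg ⟨b, hb⟩]
  exact ⟨(D.map (g ⟨b, hb⟩)).appTop a, by
    rw [← snd_tra_apply D f₀ _ (g ⟨b, hb⟩) b]; exact (fst_tra_apply D f₀ _ _ a).symm.trans (congrArg _ ha)⟩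

include hc in
theorem exists_isFinite_affine [IsAffine X₀] [∀ i, IsAffine (D.obj i)] [LocallyOfFiniteType f₀]
    (h : IsFinite (pullback.fst (c.π.app i₀) f₀)) :
    ∃ (j : I) (φ : j ⟶ i₀), IsFinite (pullback.fst (D.map φ) f₀) := by
  classical
  haveI := isAffineHom_π_app _ _ hc i₀
  haveI : IsAffine c.pt := isAffine_of_isAffineHom (c.π.app i₀)
  haveI : IsAffine (((Functor.const I).obj c.pt).obj i₀) := ‹IsAffine c.pt›
  obtain ⟨s, hs⟩ : ∃ s : Finset Γ(X₀, ⊤), Subring.closure (Set.range f₀.appTop ∪ (s : Set Γ(X₀, ⊤))) = ⊤ := by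
    have := exists_finite_gen_appLE f₀ (le_refl (f₀ ⁻¹ᵁ ⊤)) (isAffineOpen_top _) (isAffineOpen_top X₀)
    rw [← Scheme.Hom.app_eq_appLE] at this
    exact this
  choose J φ hφ using fun b : (s : Set Γ(X₀, ⊤)) => exists_isIntegralElem D c hc f₀ b.1
    ((pullback.fst (c.π.app i₀) f₀).finite_appTop.to_isIntegral _)
  obtain ⟨j, φ', g, hg⟩ := IsCofiltered.wideCospan (I := (s : Set Γ(X₀, ⊤))) φ
  refine ⟨j, φ', ?_⟩
  refine (HasAffineProperty.iff_of_isAffine (P := @IsFinite)).2 ⟨inferInstance, ?_⟩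
  set α := (pullback.fst (D.map φ') f₀).appTop.hom
  have hft : α.FiniteType := (HasRingHomProperty.iff_of_isAffine (P := @LocallyOfFiniteType)).1
    (MorphismProperty.pullback_fst (P := @LocallyOfFiniteType) _ _ inferInstance)
  letI := α.toAlgebra
  have key := eq_top_of_gen D f₀ s hs φ' (integralClosure Γ(D.obj j, ⊤) Γ(pullback (D.map φ') f₀, ⊤)).toSubring
    (fun a => isIntegral_algebraMap) fun b hb => by
      show α.IsIntegralElem _
      obtain ⟨q, hq, hqb⟩ := hφ ⟨b, hb⟩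
      simp only [α]
      rw [← hg ⟨b, hb⟩]
      refine ⟨q.map (D.map (g ⟨b, hb⟩)).appTop.hom, hq.map _, ?_⟩
      have hc2 : (pullback.fst (D.map (g ⟨b, hb⟩ ≫ φ ⟨b, hb⟩)) f₀).appTop.hom.comp (D.map (g ⟨b, hb⟩)).appTop.hom =
          (tra D f₀ (φ ⟨b, hb⟩) (g ⟨b, hb⟩)).appTop.hom.comp (pullback.fst (D.map (φ ⟨b, hb⟩)) f₀).appTop.hom :=
        RingHom.ext fun x => (fst_tra_apply D f₀ _ _ x).symm
      rw [Polynomial.eval₂_map, hc2, ← snd_tra_apply D f₀ (φ ⟨b, hb⟩) (g ⟨b, hb⟩) b]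
      show Polynomial.eval₂ _ ((tra D f₀ _ _).appTop.hom _) q = 0
      rw [← Polynomial.hom_eval₂, hqb, map_zero]
  exact RingHom.IsIntegral.to_finite (fun z => key.ge (Subring.mem_top z)) hft

end Groth.Agent.Lead.Lim
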