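import Mathlib.AlgebraicGeometry.AffineTransitionLimit
import Mathlib.AlgebraicGeometry.ResidueField

/-! Stalks of cofiltered limits with affine transition maps. -/

set_option autoImplicit false

open CategoryTheory Limits AlgebraicGeometry TopologicalSpace Opposite

universe u

namespace Groth.Agent.Lead.Lim

variable {I : Type u} [Category.{u} I] [IsCofiltered I] (D : I ⥤ Scheme.{u}) (c : Cone D)
  (hc : IsLimit c) [∀ {i j : I} (f : i ⟶ j), IsAffineHom (D.map f)]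

include hc

set_option backward.defeqAttrib.useBackward true in
set_option backward.isDefEq.respectTransparency false in
theorem exists_app_π_eq {i : I} {U : (D.obj i).Opens} (hU : IsAffineOpen U)
    (s : Γ(c.pt, c.π.app i ⁻¹ᵁ U)) :
    ∃ (j : I) (φ : j ⟶ i) (t : Γ(D.obj j, D.map φ ⁻¹ᵁ U)),
      (c.π.app j).appLE (D.map φ ⁻¹ᵁ U) (c.π.app i ⁻¹ᵁ U)
        (by rw [← Scheme.Hom.comp_preimage, c.w]) t = s := by
  have (j : Over i) : IsAffine ((opensDiagram D i U).obj j) := hU.preimage (D.map _)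
  obtain ⟨j, t, ht⟩ := exists_appTop_π_eq_of_isAffine_of_isLimit _ _ (isLimitOpensCone D c hc i U)
    ((c.π.app i ⁻¹ᵁ U).topIso.inv s)
  refine ⟨j.left, j.hom, (D.map j.hom ⁻¹ᵁ U).topIso.hom t, ?_⟩
  have h2 := congr((c.π.app i ⁻¹ᵁ U).topIso.hom $ht)
  simp only [Iso.inv_hom_id_apply] at h2
  refine Eq.trans ?_ h2
  dsimp [Scheme.Opens.toScheme_presheaf_obj]
  rw [← ConcreteCategory.comp_apply, ← ConcreteCategory.comp_apply]
  congr 2
  simp [Scheme.Hom.resLE_appLE]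

omit [IsCofiltered I] hc [∀ {i j : I} (f : i ⟶ j), IsAffineHom (D.map f)] in
theorem stalkMap_comp_π {i j : I} (φ : j ⟶ i) (x : c.pt)
    (b : (D.obj i).presheaf.stalk (c.π.app i x)) :
    (c.π.app i).stalkMap x b =
      (c.π.app j).stalkMap x ((D.map φ).stalkMap (c.π.app j x)
        (((D.obj i).presheaf.stalkSpecializes (Specializes.of_eq (by rw [← Scheme.Hom.comp_apply, c.w]))) b)) := by
  rw [Scheme.Hom.stalkMap_congr_hom (c.π.app i) (c.π.app j ≫ D.map φ) (c.w φ).symm x, Scheme.Hom.stalkMap_comp]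
  rfl

omit [IsCofiltered I] hc [∀ {i j : I} (f : i ⟶ j), IsAffineHom (D.map f)] in
theorem isIso_stalkSpecializes {X : Scheme.{u}} {x y : X} (h : x = y) :
    IsIso (X.presheaf.stalkSpecializes (Specializes.of_eq h)) :=
  (X.presheaf.stalkCongr (Inseparable.of_eq h.symm)).isIso_hom

theorem exists_stalkMap_eq (x : c.pt) (a : c.pt.presheaf.stalk x) :
    ∃ (i : I) (b : (D.obj i).presheaf.stalk (c.π.app i x)), (c.π.app i).stalkMap x b = a := by
  obtain ⟨U, hxU, s, rfl⟩ := c.pt.presheaf.exists_germ_eq a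
  obtain ⟨_, ⟨k, V, hV, rfl⟩, hxV, hVU⟩ :=
    Opens.isBasis_iff_nbhd.mp (isBasis_preimage_isAffineOpen D c hc) hxU
  obtain ⟨j, φ, t, ht⟩ := exists_app_π_eq D c hc hV (c.pt.presheaf.map (homOfLE hVU).op s)
  have hxj : c.π.app j x ∈ D.map φ ⁻¹ᵁ V := by
    show D.map φ (c.π.app j x) ∈ V
    rw [← Scheme.Hom.comp_apply, c.w]
    exact hxV
  refine ⟨j, (D.obj j).presheaf.germ _ _ hxj t, ?_⟩
  rw [Scheme.Hom.germ_stalkMap_apply, ← TopCat.Presheaf.germ_res_apply c.pt.presheaf (homOfLE hVU) x hxV s, ← ht,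
    Scheme.Hom.appLE, ConcreteCategory.comp_apply]
  exact (TopCat.Presheaf.germ_res_apply c.pt.presheaf _ x hxV _).symm

theorem stalkMap_eq_zero {i : I} (x : c.pt) (b : (D.obj i).presheaf.stalk (c.π.app i x))
    (h : (c.π.app i).stalkMap x b = 0) :
    ∃ (j : I) (φ : j ⟶ i), (D.map φ).stalkMap (c.π.app j x)
      (((D.obj i).presheaf.stalkSpecializes (Specializes.of_eq (by rw [← Scheme.Hom.comp_apply, c.w]))) b) = 0 := by
  obtain ⟨W, hxW, t, rfl⟩ := (D.obj i).presheaf.exists_germ_eq b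
  rw [Scheme.Hom.germ_stalkMap_apply, ← map_zero (c.pt.presheaf.germ (c.π.app i ⁻¹ᵁ W) x hxW).hom] at h
  obtain ⟨U, hxU, iU, iU', hU⟩ := c.pt.presheaf.germ_eq x hxW hxW _ _ h
  rw [map_zero] at hU
  obtain ⟨_, ⟨k, V, hV, rfl⟩, hxV, hVU⟩ :=
    Opens.isBasis_iff_nbhd.mp (isBasis_preimage_isAffineOpen D c hc) hxU
  obtain ⟨l, a, b, -⟩ := IsCofilteredOrEmpty.cone_objs i k
  have hw : ∀ {p q : I} (f : p ⟶ q), D.map f (c.π.app p x) = c.π.app q x := fun f => by
    rw [← Scheme.Hom.comp_apply, c.w]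
  obtain ⟨V', hV', hxV', hV'le⟩ : ∃ V' : (D.obj l).Opens, IsAffineOpen V' ∧ c.π.app l x ∈ V' ∧
      V' ≤ D.map a ⁻¹ᵁ W ⊓ D.map b ⁻¹ᵁ V := by
    obtain ⟨_, ⟨V', hV', rfl⟩, h1, h2⟩ := (D.obj l).isBasis_affineOpens.exists_subset_of_mem_open
      (show c.π.app l x ∈ ((D.map a ⁻¹ᵁ W ⊓ D.map b ⁻¹ᵁ V : (D.obj l).Opens) : Set (D.obj l)) from
        ⟨show D.map a _ ∈ W from (hw a).symm ▸ hxW, show D.map b _ ∈ V from (hw b).symm ▸ hxV⟩) (Opens.isOpen _)
    exact ⟨V', hV', h1, h2⟩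
  have hle : c.π.app l ⁻¹ᵁ V' ≤ U := by
    refine le_trans ?_ hVU
    refine (Scheme.Hom.preimage_mono _ (hV'le.trans inf_le_right)).trans ?_
    rw [← Scheme.Hom.comp_preimage, c.w]
  obtain ⟨m, ψ, hm⟩ := exists_app_map_eq_zero_of_isLimit D c hc (hV'.isCompact)
    ((D.map a).appLE W V' (hV'le.trans inf_le_left) t) (by
      have := congr(c.pt.presheaf.map (homOfLE hle).op $hU)
      rw [map_zero] at this
      refine Eq.trans ?_ this
      simp only [Scheme.Hom.app_eq_appLE, ← ConcreteCategory.comp_apply, Scheme.Hom.appLE_comp_appLE,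
        c.w]
      erw [Category.assoc]
      rw [← Functor.map_comp]
      erw [Scheme.Hom.appLE_map])
  refine ⟨m, ψ ≫ a, ?_⟩
  rw [TopCat.Presheaf.germ_stalkSpecializes_apply, Scheme.Hom.germ_stalkMap_apply]
  have hxm : c.π.app m x ∈ D.map ψ ⁻¹ᵁ V' := show D.map ψ _ ∈ V' from (hw ψ).symm ▸ hxV'
  have hle2 : D.map ψ ⁻¹ᵁ V' ≤ D.map (ψ ≫ a) ⁻¹ᵁ W := by
    rw [D.map_comp, Scheme.Hom.comp_preimage]
    exact Scheme.Hom.preimage_mono _ (hV'le.trans inf_le_left)
  rw [← TopCat.Presheaf.germ_res_apply (D.obj m).presheaf (homOfLE hle2) _ hxm]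
  refine Eq.trans (congrArg _ ?_) (map_zero ((D.obj m).presheaf.germ (D.map ψ ⁻¹ᵁ V') _ hxm).hom)
  refine Eq.trans ?_ hm
  simp only [Scheme.Hom.app_eq_appLE, ← ConcreteCategory.comp_apply, Scheme.Hom.appLE_comp_appLE,
    Scheme.Hom.appLE_map, Functor.map_comp]

theorem exists_residueFieldMap_eq (x : c.pt) (a : c.pt.residueField x) :
    ∃ (i : I) (b : (D.obj i).residueField (c.π.app i x)), (c.π.app i).residueFieldMap x b = a := by
  obtain ⟨a, rfl⟩ := Scheme.residue_surjective c.pt x a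
  obtain ⟨i, b, rfl⟩ := exists_stalkMap_eq D c hc x a
  refine ⟨i, (D.obj i).residue _ b, ?_⟩
  exact (ConcreteCategory.congr_hom (Scheme.residue_residueFieldMap (c.π.app i) x) b)

theorem isEmbedding_π (hoi : ∀ {i j : I} (φ : i ⟶ j), IsOpenImmersion (D.map φ)) (i : I) :
    Topology.IsEmbedding (c.π.app i) := by
  have key : ∀ {k : I} (V : (D.obj k).Opens), ∃ W : (D.obj i).Opens, c.π.app i ⁻¹ᵁ W = c.π.app k ⁻¹ᵁ V := by
    intro k V
    obtain ⟨l, a, b, -⟩ := IsCofilteredOrEmpty.cone_objs i k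
    have := hoi a
    refine ⟨D.map a ''ᵁ (D.map b ⁻¹ᵁ V), ?_⟩
    conv_lhs => rw [← c.w a]
    rw [Scheme.Hom.comp_preimage, Scheme.Hom.preimage_image_eq, ← Scheme.Hom.comp_preimage, c.w]
  refine ⟨⟨le_antisymm (continuous_iff_le_induced.1 (c.π.app i).continuous) ?_⟩, fun x y hxy => ?_⟩
  · intro U hU
    refine (@isOpen_iff_forall_mem_open _ (TopologicalSpace.induced (c.π.app i) inferInstance) _).2 ?_
    intro x hx
    obtain ⟨_, ⟨k, V, hV, rfl⟩, hxV, hVU⟩ :=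
      Opens.isBasis_iff_nbhd.mp (isBasis_preimage_isAffineOpen D c hc) (U := ⟨U, hU⟩) (x := x) hx
    obtain ⟨W, hW⟩ := key V
    exact ⟨_, hVU, ⟨W, W.2, congrArg (fun o : c.pt.Opens => (o : Set c.pt)) hW⟩, hxV⟩
  · refine ((isBasis_preimage_isAffineOpen D c hc).inseparable_iff.2 ?_).eq
    rintro _ ⟨_, ⟨k, V, hV, rfl⟩, rfl⟩
    obtain ⟨W, hW⟩ := key V
    rw [← hW]
    exact (congrArg (· ∈ W) hxy).to_iff

theorem isIso_stalkMap_π (hoi : ∀ {i j : I} (φ : i ⟶ j), IsOpenImmersion (D.map φ)) (i : I) (x : c.pt) :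
    IsIso ((c.π.app i).stalkMap x) := by
  rw [ConcreteCategory.isIso_iff_bijective]
  refine ⟨(injective_iff_map_eq_zero _).2 fun b hb => ?_, fun a => ?_⟩
  · obtain ⟨j, φ, hj⟩ := stalkMap_eq_zero D c hc x b hb
    have := hoi φ
    rw [← map_zero ((D.map φ).stalkMap (c.π.app j x)).hom] at hj
    have h1 := (ConcreteCategory.bijective_of_isIso ((D.map φ).stalkMap (c.π.app j x))).1 hj
    have := isIso_stalkSpecializes (X := D.obj i)
      (show D.map φ (c.π.app j x) = c.π.app i x by rw [← Scheme.Hom.comp_apply, c.w])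
    rw [← map_zero ((D.obj i).presheaf.stalkSpecializes (Specializes.of_eq
      (show D.map φ (c.π.app j x) = c.π.app i x by rw [← Scheme.Hom.comp_apply, c.w]))).hom] at h1
    exact (ConcreteCategory.bijective_of_isIso _).1 h1
  · obtain ⟨k, b, rfl⟩ := exists_stalkMap_eq D c hc x a
    obtain ⟨l, p, q, -⟩ := IsCofilteredOrEmpty.cone_objs i k
    have := hoi p
    obtain ⟨e, he⟩ := (ConcreteCategory.bijective_of_isIso ((D.map p).stalkMap (c.π.app l x))).2
      ((D.map q).stalkMap (c.π.app l x) (((D.obj k).presheaf.stalkSpecializes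
        (Specializes.of_eq (by rw [← Scheme.Hom.comp_apply, c.w]))) b))
    have := isIso_stalkSpecializes (X := D.obj i)
      (show D.map p (c.π.app l x) = c.π.app i x by rw [← Scheme.Hom.comp_apply, c.w])
    obtain ⟨e', rfl⟩ := (ConcreteCategory.bijective_of_isIso ((D.obj i).presheaf.stalkSpecializes (Specializes.of_eq
      (show D.map p (c.π.app l x) = c.π.app i x by rw [← Scheme.Hom.comp_apply, c.w])))).2 e
    refine ⟨e', ?_⟩
    rw [stalkMap_comp_π D c p x e', stalkMap_comp_π D c q x b]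
    exact congrArg _ he

end Groth.Agent.Lead.Lim
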