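import Groth.Agent.Lead.Lim.SepGen
import Groth.Agent.Lead.Lim.Stalk
import Mathlib.AlgebraicGeometry.AffineTransitionLimit
import Mathlib.CategoryTheory.Limits.Constructions.Over.Connected

/-!
Closed immersions descend along limits.
-/

set_option autoImplicit false

open CategoryTheory Limits AlgebraicGeometry TopologicalSpace

universe u

namespace Groth.Agent.Lead.Lim

theorem isClosedImmersion_of_cover {X Y : Scheme.{u}} (g : Y ⟶ X) {J : Type*} (V : J → X.Opens)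
    (hV : IsOpenCover V) (hA : ∀ b, IsAffineOpen (V b)) (hP : ∀ b, IsAffineOpen (g ⁻¹ᵁ V b))
    (hs : ∀ b, Function.Surjective (g.app (V b))) : IsClosedImmersion g := by
  refine IsZariskiLocalAtTarget.of_iSup_eq_top V hV fun b => ?_
  have : IsAffine (V b) := hA b
  have : IsAffine (g ⁻¹ᵁ V b) := hP b
  refine IsClosedImmersion.of_surjective_of_isAffine _ fun y => ?_
  obtain ⟨x, hx⟩ := hs b ((g ⁻¹ᵁ V b).topIso.hom y)
  obtain ⟨x, rfl⟩ := (ConcreteCategory.bijective_of_isIso (V b).topIso.hom).2 x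
  refine ⟨x, (ConcreteCategory.bijective_of_isIso (g ⁻¹ᵁ V b).topIso.hom).1 ?_⟩
  refine Eq.trans ?_ hx
  show ((g ∣_ V b).appTop ≫ (g ⁻¹ᵁ V b).topIso.hom) x = ((V b).topIso.hom ≫ g.app (V b)) x
  congr 2
  simp [Scheme.Hom.app_eq_appLE]
  erw [Scheme.Hom.map_appLE, Scheme.Hom.appLE_map]

theorem surjective_app_of_gen {A B : CommRingCat.{u}} (f : A ⟶ B) (s : Set B)
    (hs : ∀ y ∈ s, y ∈ f.hom.range) {R : Type*} [CommRing R] (r : R →+* B) (hr : ∀ x, r x ∈ f.hom.range)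
    (hgen : Subring.closure (Set.range r ∪ s) = ⊤) : Function.Surjective f := by
  refine RingHom.range_eq_top.1 (eq_top_iff.2 (hgen.ge.trans (Subring.closure_le.2 ?_)))
  rintro _ (⟨x, rfl⟩ | hy)
  · exact hr x
  · exact hs _ hy

theorem exists_finite_gen_appLE {X S : Scheme.{u}} (f : X ⟶ S) [LocallyOfFiniteType f] {U : S.Opens} {W : X.Opens}
    (e : W ≤ f ⁻¹ᵁ U) (hU : IsAffineOpen U) (hW : IsAffineOpen W) :
    ∃ s : Finset Γ(X, W), Subring.closure (Set.range (f.appLE U W e).hom ∪ ↑s) = ⊤ := by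
  have h := LocallyOfFiniteType.finiteType_appLE f hU hW e
  algebraize [(f.appLE U W e).hom]
  obtain ⟨s, hs⟩ := (h : Algebra.FiniteType Γ(S, U) Γ(X, W)).out
  refine ⟨s, eq_top_iff.2 fun x _ => ?_⟩
  have hx : x ∈ (Algebra.adjoin Γ(S, U) (s : Set Γ(X, W))).toSubring := by erw [hs]; trivial
  rw [Algebra.adjoin_eq_ring_closure] at hx
  exact hx

variable {I : Type u} [Category.{u} I] [IsCofiltered I]

section descent

variable (D : I ⥤ Scheme.{u}) (c : Cone D) (hc : IsLimit c) [∀ {i j : I} (f : i ⟶ j), IsAffineHom (D.map f)]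

include hc in
theorem exists_isClosedImmersion_comp {S : Scheme.{u}} (i₀ : I) [CompactSpace (D.obj i₀)]
    (t₀ : D.obj i₀ ⟶ S) {Y : Scheme.{u}} (h : Y ⟶ c.pt) [IsClosedImmersion h]
    [LocallyOfFiniteType (h ≫ c.π.app i₀ ≫ t₀)] :
    ∃ i, IsClosedImmersion (h ≫ c.π.app i) := by
  classical
  haveI : ∀ i, IsAffineHom (c.π.app i) := fun i => isAffineHom_π_app _ _ hc i
  have hx : ∀ x : D.obj i₀, ∃ (U : S.Opens) (V : (D.obj i₀).Opens),
      IsAffineOpen U ∧ IsAffineOpen V ∧ x ∈ V ∧ V ≤ t₀ ⁻¹ᵁ U := by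
    intro x
    obtain ⟨_, ⟨U, hU, rfl⟩, hxU, -⟩ := S.isBasis_affineOpens.exists_subset_of_mem_open (Set.mem_univ (t₀ x)) isOpen_univ
    obtain ⟨_, ⟨V, hV, rfl⟩, hxV, hVU⟩ :=
      (D.obj i₀).isBasis_affineOpens.exists_subset_of_mem_open (show x ∈ (t₀ ⁻¹ᵁ U : Set (D.obj i₀)) from hxU) (t₀ ⁻¹ᵁ U).2
    exact ⟨U, V, hU, hV, hxV, hVU⟩
  choose U V hU hV hxV hVU using hx
  obtain ⟨T, hT⟩ := isCompact_univ.elim_finite_subcover (fun x => ((V x : (D.obj i₀).Opens) : Set (D.obj i₀)))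
    (fun x => (V x).2) (fun x _ => Set.mem_iUnion.2 ⟨x, hxV x⟩)
  -- per member: a stage where generators lift
  let g := h ≫ c.π.app i₀
  have gaff : ∀ x, IsAffineOpen (g ⁻¹ᵁ V x) := fun x => (hV x).preimage g
  have hle : ∀ x, g ⁻¹ᵁ V x ≤ (h ≫ c.π.app i₀ ≫ t₀) ⁻¹ᵁ U x := fun x => g.preimage_mono (hVU x)
  choose s hs using fun x => exists_finite_gen_appLE (h ≫ c.π.app i₀ ≫ t₀) (hle x) (hU x) (gaff x)
  have lift : ∀ (x : D.obj i₀) (y : Γ(Y, g ⁻¹ᵁ V x)), ∃ (j : I) (φ : j ⟶ i₀),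
      y ∈ ((h ≫ c.π.app j).appLE (D.map φ ⁻¹ᵁ V x) (g ⁻¹ᵁ V x)
        (by rw [← Scheme.Hom.comp_preimage, Category.assoc, c.w])).hom.range := by
    intro x y
    obtain ⟨z, hz⟩ := h.app_surjective (c.π.app i₀ ⁻¹ᵁ V x) ((hV x).preimage _) y
    obtain ⟨j, φ, w, rfl⟩ := exists_app_π_eq D c hc (hV x) z
    refine ⟨j, φ, w, ?_⟩
    refine Eq.trans ?_ hz
    simp only [← ConcreteCategory.comp_apply, Scheme.Hom.app_eq_appLE, Scheme.Hom.appLE_comp_appLE]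
    rfl
  choose J φ hφ using lift
  let Idx := Σ x : T, (s x.1 : Set Γ(Y, g ⁻¹ᵁ V x.1))
  obtain ⟨l, fl, gl, hl⟩ := IsCofiltered.wideCospan (I := Idx) fun p => φ p.1.1 p.2.1
  refine ⟨l, ?_⟩
  have hmono : ∀ {j : I} (ψ : j ⟶ i₀) (a : l ⟶ j), a ≫ ψ = fl → ∀ (x : D.obj i₀) (y : Γ(Y, g ⁻¹ᵁ V x)),
      y ∈ ((h ≫ c.π.app j).appLE (D.map ψ ⁻¹ᵁ V x) (g ⁻¹ᵁ V x)
        (by rw [← Scheme.Hom.comp_preimage, Category.assoc, c.w])).hom.range →
      y ∈ ((h ≫ c.π.app l).appLE (D.map fl ⁻¹ᵁ V x) (g ⁻¹ᵁ V x)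
        (by rw [← Scheme.Hom.comp_preimage, Category.assoc, c.w])).hom.range := by
    rintro j ψ a rfl x _ ⟨w, rfl⟩
    refine ⟨(D.map a).appLE _ _ (by rw [← Scheme.Hom.comp_preimage, ← D.map_comp]) w, ?_⟩
    show ((D.map a).appLE _ _ _ ≫ (h ≫ c.π.app l).appLE _ _ _) w = _
    rw [Scheme.Hom.appLE_comp_appLE]
    simp only [Category.assoc, c.w]
  have heq : ∀ x, (h ≫ c.π.app l) ⁻¹ᵁ (D.map fl ⁻¹ᵁ V x) = g ⁻¹ᵁ V x := fun x => by
    rw [← Scheme.Hom.comp_preimage, Category.assoc, c.w]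
  refine isClosedImmersion_of_cover _ (fun x : T => D.map fl ⁻¹ᵁ V x.1) ?_ (fun x => (hV x.1).preimage _)
    (fun x => (heq x.1).symm ▸ gaff x.1) fun x => ?_
  · refine eq_top_iff.2 fun z _ => ?_
    obtain ⟨a, ha, hz⟩ := Set.mem_iUnion₂.1 (hT (Set.mem_univ (D.map fl z)))
    exact Opens.mem_iSup.2 ⟨⟨a, ha⟩, hz⟩
  have hsurj : Function.Surjective ((h ≫ c.π.app l).appLE (D.map fl ⁻¹ᵁ V x.1) (g ⁻¹ᵁ V x.1) (heq x.1).ge) := by
    refine surjective_app_of_gen _ _ (fun y hy => hmono _ (gl ⟨x, y, hy⟩) (hl _) x.1 y (hφ x.1 y)) _ (fun r => ?_) (hs x.1)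
    refine ⟨(D.map fl ≫ t₀).appLE (U x.1) (D.map fl ⁻¹ᵁ V x.1) ((D.map fl).preimage_mono (hVU x.1)) r, ?_⟩
    show ((D.map fl ≫ t₀).appLE _ _ _ ≫ (h ≫ c.π.app l).appLE _ _ _) r = _
    rw [Scheme.Hom.appLE_comp_appLE]
    simp only [Category.assoc, ← c.w fl]
  intro y
  obtain ⟨w, hw⟩ := hsurj (Y.presheaf.map (eqToHom (heq x.1).symm).op y)
  refine ⟨w, (ConcreteCategory.bijective_of_isIso (Y.presheaf.map (eqToHom (heq x.1).symm).op)).1 ?_⟩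
  refine Eq.trans ?_ hw
  show ((h ≫ c.π.app l).app _ ≫ Y.presheaf.map _) w = _
  rw [Scheme.Hom.app_eq_appLE, Scheme.Hom.appLE_map]

include hc in
theorem exists_isClosedImmersion_of_closed [∀ i, CompactSpace (D.obj i)] [∀ i, QuasiSeparatedSpace (D.obj i)]
    (hD : ∀ {i j : I} (f : i ⟶ j), IsClosedImmersion (D.map f))
    {S : Scheme.{u}} [CompactSpace S] [QuasiSeparatedSpace S] (i₀ : I) (t₀ : D.obj i₀ ⟶ S)
    [LocallyOfFiniteType t₀] [IsClosedImmersion (c.π.app i₀ ≫ t₀)] :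
    ∃ (i : I) (φ : i ⟶ i₀), IsClosedImmersion (D.map φ ≫ t₀) := by
  classical
  haveI : ∀ i, IsAffineHom (c.π.app i) := fun i => isAffineHom_π_app _ _ hc i
  obtain ⟨T, hTfin, hT⟩ : ∃ T : Set S.affineOpens, T.Finite ∧ ∀ z : S, ∃ W ∈ T, z ∈ (W : S.affineOpens).1 := by
    obtain ⟨T, hT⟩ := isCompact_univ.elim_finite_subcover (fun W : S.affineOpens => ((W.1 : S.Opens) : Set S))
      (fun W => W.1.2) (fun z _ => by
        obtain ⟨_, ⟨W, hW, rfl⟩, hzW, -⟩ := S.isBasis_affineOpens.exists_subset_of_mem_open (Set.mem_univ z) isOpen_univ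
        exact Set.mem_iUnion.2 ⟨⟨W, hW⟩, hzW⟩)
    exact ⟨T, T.finite_toSet, fun z => by simpa using Set.mem_iUnion₂.1 (hT (Set.mem_univ z))⟩
  haveI : Finite T := hTfin
  haveI : QuasiCompact t₀ := inferInstance
  have step : ∀ W : T, ∃ (j : I) (φ : j ⟶ i₀), IsAffineOpen (D.map φ ⁻¹ᵁ (t₀ ⁻¹ᵁ W.1.1)) := by
    intro W
    set Z := t₀ ⁻¹ᵁ W.1.1
    have hZc : IsCompact (Z : Set (D.obj i₀)) := QuasiCompact.isCompact_preimage _ W.1.1.2 W.1.2.isCompact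
    have (j : Over i₀) : CompactSpace ((opensDiagram D i₀ Z).obj j) :=
      isCompact_iff_compactSpace.mp (QuasiCompact.isCompact_preimage _ Z.2 hZc)
    have (j : Over i₀) : QuasiSeparatedSpace ((opensDiagram D i₀ Z).obj j) :=
      (isQuasiSeparated_iff_quasiSeparatedSpace _ (D.map _ ⁻¹ᵁ _).2).mp (.of_quasiSeparatedSpace _)
    have : IsAffine (opensCone D c i₀ Z).pt := W.1.2.preimage (c.π.app i₀ ≫ t₀)
    obtain ⟨j, hj⟩ := Scheme.exists_isAffine_of_isLimit _ _ (isLimitOpensCone D c hc i₀ Z)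
    exact ⟨j.left, j.hom, hj⟩
  choose J φ hφ using step
  obtain ⟨k, fk, gk, hk⟩ := IsCofiltered.wideCospan φ
  let f := D.map fk ≫ t₀
  have hA : ∀ W : T, IsAffineOpen (f ⁻¹ᵁ W.1.1) := fun W => by
    have := (hφ W).preimage (D.map (gk W))
    rwa [← Scheme.Hom.comp_preimage, ← D.map_comp, hk] at this
  haveI := hD fk
  choose s hs using fun W : T => exists_finite_gen_appLE f (le_refl (f ⁻¹ᵁ W.1.1)) W.1.2 (hA W)
  have step2 : ∀ (W : T) (y : Γ(D.obj k, f ⁻¹ᵁ W.1.1)), ∃ (l : I) (ψ : l ⟶ k),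
      (D.map ψ).app _ y ∈ ((D.map ψ ≫ f).app W.1.1).hom.range := by
    intro W y
    have hci : IsClosedImmersion (c.π.app k ≫ f) := by
      show IsClosedImmersion (c.π.app k ≫ D.map fk ≫ t₀)
      rw [c.w_assoc]; infer_instance
    obtain ⟨a, ha⟩ := (c.π.app k ≫ f).app_surjective W.1.1 W.1.2 ((c.π.app k).app _ y)
    obtain ⟨l, ψ, hψ⟩ := exists_app_map_eq_map_of_isLimit D c hc (hA W).isCompact y (f.app W.1.1 a) (by
      rw [← ha, Scheme.Hom.comp_app]; rfl)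
    exact ⟨l, ψ, a, by rw [Scheme.Hom.comp_app, hψ]; rfl⟩
  choose L ψ hψ using step2
  let Idx := Σ W : T, (s W : Set Γ(D.obj k, f ⁻¹ᵁ W.1.1))
  obtain ⟨l, fl, gl, hl⟩ := IsCofiltered.wideCospan (I := Idx) fun p => ψ p.1 p.2.1
  refine ⟨l, fl ≫ fk, ?_⟩
  rw [D.map_comp, Category.assoc]
  haveI := hD fl
  refine isClosedImmersion_of_cover _ (fun W : T => W.1.1) (eq_top_iff.2 fun z _ => by
      obtain ⟨W, hW, hz⟩ := hT z
      exact Opens.mem_iSup.2 ⟨⟨W, hW⟩, hz⟩) (fun W => W.1.2)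
    (fun W => (hA W).preimage (D.map fl)) fun W => ?_
  intro z
  obtain ⟨b, rfl⟩ := (D.map fl).app_surjective _ (hA W) z
  let R : Subring Γ(D.obj l, D.map fl ⁻¹ᵁ (f ⁻¹ᵁ W.1.1)) := ((D.map fl ≫ f).app W.1.1).hom.range
  suffices h : ∀ y, (D.map fl).app (f ⁻¹ᵁ W.1.1) y ∈ R from h b
  intro y
  refine (Subring.closure_le (t := R.comap ((D.map fl).app (f ⁻¹ᵁ W.1.1)).hom)).2 ?_
    ((hs W).ge (Subring.mem_top y))
  rintro _ (⟨a, rfl⟩ | hy')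
  · refine ⟨a, ?_⟩
    rw [Scheme.Hom.comp_app]
    simp [Scheme.Hom.app_eq_appLE]
    rfl
  · rename_i y'
    obtain ⟨a, ha⟩ := hψ W y'
    refine ⟨a, ?_⟩
    have key : ∀ (m : l ⟶ L W y') (he : m ≫ ψ W y' = fl), (D.map fl ≫ f).app W.1.1 a = (D.map fl).app _ y' := by
      rintro m he
      subst he
      have h2 : (D.map (m ≫ ψ W y')).app (f ⁻¹ᵁ W.1.1) = (D.map (ψ W y')).app (f ⁻¹ᵁ W.1.1) ≫
          (D.map m).appLE _ (D.map (m ≫ ψ W y') ⁻¹ᵁ (f ⁻¹ᵁ W.1.1)) (by rw [D.map_comp]; rfl) := by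
        rw [Scheme.Hom.app_eq_appLE, Scheme.Hom.app_eq_appLE, Scheme.Hom.appLE_comp_appLE]
        simp only [D.map_comp]
      show (D.map (m ≫ ψ W y')).app (f ⁻¹ᵁ W.1.1) (f.app W.1.1 a) = (D.map (m ≫ ψ W y')).app (f ⁻¹ᵁ W.1.1) y'
      rw [h2, ConcreteCategory.comp_apply, ConcreteCategory.comp_apply]
      exact congrArg ((D.map m).appLE _ (D.map (m ≫ ψ W y') ⁻¹ᵁ (f ⁻¹ᵁ W.1.1)) (by rw [D.map_comp]; rfl)).hom ha
    exact key _ (hl ⟨W, y', hy'⟩)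

end descent

end Groth.Agent.Lead.Lim
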