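import Groth.Agent.Lead.Lim.AffineCore

/-!
Global form of descent of closed immersions and finite morphisms.
-/

set_option autoImplicit false
set_option backward.isDefEq.respectTransparency false
set_option backward.defeqAttrib.useBackward true

open CategoryTheory Limits AlgebraicGeometry TopologicalSpace

universe u

namespace Groth.Agent.Lead.Lim

theorem of_factor (P : MorphismProperty Scheme.{u}) [P.IsStableUnderBaseChange] {A B S X₀ Q : Scheme.{u}}
    (f₀ : X₀ ⟶ S) (a : A ⟶ S) (h : P (pullback.fst a f₀)) (b : B ⟶ A) {q : Q ⟶ X₀} {g : Q ⟶ B}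
    (hg : IsPullback q g f₀ (b ≫ a)) : P g := by
  have w : (g ≫ b) ≫ a = q ≫ f₀ := by rw [Category.assoc, hg.w]
  have := IsPullback.of_right (h₁₁ := pullback.lift (g ≫ b) q w) (v₁₁ := g) (h₂₁ := b)
    (by rw [pullback.lift_snd]; exact hg) (pullback.lift_fst _ _ _) (IsPullback.of_hasPullback a f₀).flip
  exact MorphismProperty.of_isPullback this h

variable {I : Type u} [Category.{u} I] [IsCofiltered I] (D : I ⥤ Scheme.{u}) (c : Cone D) (hc : IsLimit c)
  [∀ {i j : I} (f : i ⟶ j), IsAffineHom (D.map f)] (P : MorphismProperty Scheme.{u})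

include hc in
theorem exists_descend_local [IsZariskiLocalAtTarget P] [P.IsStableUnderBaseChange] (hPaff : P ≤ @IsAffineHom)
    (Q : MorphismProperty Scheme.{u}) [Q.IsStableUnderBaseChange]
    (hcore : ∀ {J : Type u} [Category.{u} J] [IsCofiltered J] (E : J ⥤ Scheme.{u}) (cE : Cone E), IsLimit cE →
      ∀ [∀ {a b : J} (g : a ⟶ b), IsAffineHom (E.map g)] [∀ a, IsAffine (E.obj a)] {a₀ : J} {Z : Scheme.{u}}
        [IsAffine Z] (h₀ : Z ⟶ E.obj a₀) [LocallyOfFiniteType h₀], Q h₀ →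
        P (pullback.fst (cE.π.app a₀) h₀) → ∃ (a : J) (φ : a ⟶ a₀), P (pullback.fst (E.map φ) h₀))
    (i₀ : I) [CompactSpace (D.obj i₀)] {X₀ : Scheme.{u}} (f₀ : X₀ ⟶ D.obj i₀) [LocallyOfFiniteType f₀]
    [QuasiCompact f₀] [QuasiSeparated f₀] (hQ : Q f₀) (h : P (pullback.fst (c.π.app i₀) f₀)) :
    ∃ (j : I) (φ : j ⟶ i₀), P (pullback.fst (D.map φ) f₀) := by
  classical
  obtain ⟨T, hT⟩ := isCompact_univ.elim_finite_subcover (fun W : (D.obj i₀).affineOpens => ((W.1 : (D.obj i₀).Opens) : Set (D.obj i₀)))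
    (fun W => W.1.2) (fun z _ => by
      obtain ⟨_, ⟨W, hW, rfl⟩, hzW, -⟩ := (D.obj i₀).isBasis_affineOpens.exists_subset_of_mem_open (Set.mem_univ z) isOpen_univ
      exact Set.mem_iUnion.2 ⟨⟨W, hW⟩, hzW⟩)
  have step : ∀ U : (D.obj i₀).affineOpens, ∃ (j : I) (φ : j ⟶ i₀),
      P (pullback.fst (pullback.fst (D.map φ) U.1.ι ≫ D.map φ) f₀) := by
    intro U
    haveI : IsAffine (U.1 : Scheme.{u}) := U.2
    let F := Groth.Agent.Lim.Topo.bcDiagram D U.1.ι
    let cF := Groth.Agent.Lim.Topo.bcCone D c U.1.ι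
    haveI : ∀ {a b : Over i₀} (w : a ⟶ b), IsAffineHom (F.map w) := fun w =>
      Groth.Agent.Lim.Topo.isAffineHom_bcDiagram_map D U.1.ι w
    haveI (a : Over i₀) : IsAffine (F.obj a) :=
      @isAffine_of_isAffineHom _ _ (pullback.snd (D.map a.hom) U.1.ι)
        (MorphismProperty.pullback_snd (P := @IsAffineHom) _ _ (inferInstance : IsAffineHom (D.map a.hom))) _
    let hcF := Groth.Agent.Lim.Topo.isLimitBcCone D c hc U.1.ι
    let a₀ : Over i₀ := Over.mk (𝟙 i₀)
    let u₀ : F.obj a₀ ⟶ D.obj i₀ := pullback.fst (D.map a₀.hom) U.1.ι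
    let f' := pullback.fst u₀ f₀
    haveI : LocallyOfFiniteType f' := MorphismProperty.pullback_fst _ _ inferInstance
    haveI : QuasiCompact f' := MorphismProperty.pullback_fst _ _ inferInstance
    haveI : QuasiSeparated f' := MorphismProperty.pullback_fst _ _ inferInstance
    haveI : CompactSpace ↥(pullback u₀ f₀) := QuasiCompact.compactSpace_of_compactSpace f'
    haveI : QuasiSeparatedSpace ↥(pullback u₀ f₀) := quasiSeparatedSpace_of_quasiSeparated f'
    have hw : ∀ b : Over i₀, ∀ w : b ⟶ a₀, F.map w ≫ u₀ = pullback.fst (D.map b.hom) U.1.ι ≫ D.map b.hom := by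
      intro b w
      have : w.left = b.hom := by simpa [a₀] using Over.w w
      simp [F, u₀, a₀, Groth.Agent.Lim.Topo.bcDiagram, this]
    have hlim : cF.π.app a₀ ≫ u₀ = pullback.fst (c.π.app i₀) U.1.ι ≫ c.π.app i₀ := by
      simp [cF, u₀, a₀, Groth.Agent.Lim.Topo.bcCone, pullback.map]
    have hP₀ : P (pullback.fst (cF.π.app a₀) f') := by
      refine of_factor P f₀ (c.π.app i₀) h (pullback.fst (c.π.app i₀) U.1.ι) (q := pullback.snd _ _ ≫ pullback.snd u₀ f₀) ?_
      have := (IsPullback.of_hasPullback (cF.π.app a₀) f').flip.paste_horiz (IsPullback.of_hasPullback u₀ f₀).flip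
      rwa [hlim] at this
    let E := Groth.Agent.Lim.Topo.bcDiagram F f'
    let cE := Groth.Agent.Lim.Topo.bcCone F cF f'
    haveI : ∀ {a b : Over a₀} (w : a ⟶ b), IsAffineHom (E.map w) := fun w =>
      Groth.Agent.Lim.Topo.isAffineHom_bcDiagram_map F f' w
    haveI hE (a : Over a₀) : IsAffineHom (pullback.snd (F.map a.hom) f') :=
      MorphismProperty.pullback_snd (P := @IsAffineHom) _ _ (inferInstance : IsAffineHom (F.map a.hom))
    haveI (a : Over a₀) : QuasiCompact (pullback.snd (F.map a.hom) f') := @instQuasiCompactOfIsAffineHom _ _ _ (hE a)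
    haveI (a : Over a₀) : CompactSpace (E.obj a) := QuasiCompact.compactSpace_of_compactSpace (pullback.snd (F.map a.hom) f')
    haveI (a : Over a₀) : QuasiSeparatedSpace (E.obj a) := quasiSeparatedSpace_of_quasiSeparated (pullback.snd (F.map a.hom) f')
    haveI : IsAffine cE.pt := by
      haveI := hPaff _ hP₀
      haveI : IsAffine cF.pt := by
        haveI := isAffineHom_π_app _ _ hcF a₀
        exact isAffine_of_isAffineHom (cF.π.app a₀)
      haveI : IsAffine (((Functor.const (Over i₀)).obj cF.pt).obj a₀) := ‹IsAffine cF.pt›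
      exact isAffine_of_isAffineHom (pullback.fst (cF.π.app a₀) f')
    obtain ⟨b, hb⟩ := Scheme.exists_isAffine_of_isLimit E cE (Groth.Agent.Lim.Topo.isLimitBcCone F cF hcF f')
    haveI : IsAffine (pullback (F.map b.hom) f') := hb
    let f₁ := pullback.fst (F.map b.hom) f'
    have hQ₁ : Q f₁ := MorphismProperty.pullback_fst _ _ (MorphismProperty.pullback_fst _ _ hQ)
    haveI : LocallyOfFiniteType f₁ := MorphismProperty.pullback_fst _ _ inferInstance
    have hP₁ : P (pullback.fst (cF.π.app b.left) f₁) := by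
      refine of_factor P f' (cF.π.app a₀) hP₀ (𝟙 _) (q := pullback.snd _ _ ≫ pullback.snd (F.map b.hom) f') ?_
      have := (IsPullback.of_hasPullback (cF.π.app b.left) f₁).flip.paste_horiz (IsPullback.of_hasPullback (F.map b.hom) f').flip
      rw [cF.w] at this
      rwa [Category.id_comp]
    obtain ⟨k, ψ, hk⟩ := hcore F cF hcF f₁ hQ₁ hP₁
    refine ⟨k.left, k.hom, ?_⟩
    let hsq := ((IsPullback.of_hasPullback (F.map ψ) f₁).flip.paste_horiz
      (IsPullback.of_hasPullback (F.map b.hom) f').flip).paste_horiz (IsPullback.of_hasPullback u₀ f₀).flip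
    have e : (F.map ψ ≫ F.map b.hom) ≫ u₀ = pullback.fst (D.map k.hom) U.1.ι ≫ D.map k.hom := by
      rw [← F.map_comp]; exact hw k _
    rw [e] at hsq
    rw [← hsq.flip.isoPullback_inv_fst, MorphismProperty.cancel_left_of_respectsIso P]
    exact hk
  choose J φ hφ using step
  obtain ⟨k, fk, gk, hgk⟩ := IsCofiltered.wideCospan (I := T) fun U => φ U.1
  refine ⟨k, fk, IsZariskiLocalAtTarget.of_iSup_eq_top (fun U : T => D.map fk ⁻¹ᵁ U.1.1) (eq_top_iff.2 fun z _ => by
    obtain ⟨W, hW, hz⟩ := Set.mem_iUnion₂.1 (hT (Set.mem_univ (D.map fk z)))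
    exact Opens.mem_iSup.2 ⟨⟨W, hW⟩, hz⟩) fun U => ?_⟩
  let v : ((D.map fk ⁻¹ᵁ U.1.1 : (D.obj k).Opens) : Scheme.{u}) ⟶ pullback (D.map (φ U.1)) U.1.1.ι :=
    pullback.lift ((D.map fk ⁻¹ᵁ U.1.1).ι ≫ D.map (gk U)) (D.map fk ∣_ U.1.1)
      (by rw [morphismRestrict_ι, Category.assoc, ← D.map_comp, hgk])
  refine of_factor P f₀ _ (hφ U.1) v (q := (pullback.fst (D.map fk) f₀ ⁻¹ᵁ (D.map fk ⁻¹ᵁ U.1.1)).ι ≫ pullback.snd _ _) ?_
  have := (isPullback_morphismRestrict (pullback.fst (D.map fk) f₀) (D.map fk ⁻¹ᵁ U.1.1)).flip.paste_horiz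
    (IsPullback.of_hasPullback (D.map fk) f₀).flip
  have ev : v ≫ pullback.fst (D.map (φ U.1)) U.1.1.ι ≫ D.map (φ U.1) = (D.map fk ⁻¹ᵁ U.1.1).ι ≫ D.map fk := by
    rw [pullback.lift_fst_assoc, Category.assoc, ← D.map_comp, hgk]
  rwa [ev]

include hc in
theorem exists_isClosedImmersion_descend (i₀ : I) [CompactSpace (D.obj i₀)] {X₀ : Scheme.{u}} (f₀ : X₀ ⟶ D.obj i₀)
    [LocallyOfFiniteType f₀] [QuasiCompact f₀] [QuasiSeparated f₀]
    (h : IsClosedImmersion (pullback.fst (c.π.app i₀) f₀)) :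
    ∃ (j : I) (φ : j ⟶ i₀), IsClosedImmersion (pullback.fst (D.map φ) f₀) :=
  exists_descend_local D c hc @IsClosedImmersion (fun _ _ _ hg => by haveI : IsClosedImmersion _ := hg; infer_instance) @LocallyOfFiniteType
    (fun E cE hE _ _ _ _ _ h₀ _ _ hh => exists_isClosedImmersion_affine E cE hE h₀ hh) i₀ f₀ inferInstance h

include hc in
theorem exists_isFinite_descend (i₀ : I) [CompactSpace (D.obj i₀)] {X₀ : Scheme.{u}} (f₀ : X₀ ⟶ D.obj i₀)
    [LocallyOfFiniteType f₀] [QuasiCompact f₀] [QuasiSeparated f₀]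
    (h : IsFinite (pullback.fst (c.π.app i₀) f₀)) :
    ∃ (j : I) (φ : j ⟶ i₀), IsFinite (pullback.fst (D.map φ) f₀) :=
  exists_descend_local D c hc @IsFinite (fun _ _ _ hg => by haveI : IsFinite _ := hg; infer_instance) @LocallyOfFiniteType
    (fun E cE hE _ _ _ _ _ h₀ _ _ hh => exists_isFinite_affine E cE hE h₀ hh) i₀ f₀ inferInstance h

end Groth.Agent.Lead.Lim

namespace Groth.Agent.Lead.Lim

variable {I : Type u} [SmallCategory I] [IsCofiltered I] (D : I ⥤ Scheme.{u}) (c : Cone D) (hc : IsLimit c)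
  [∀ (i j : I) (f : i ⟶ j), IsAffineHom (D.map f)] (P : MorphismProperty Scheme.{u})

include hc in
/-- from descent over a stage to descent for a morphism of schemes over a stage -/
theorem exists_descend_over [P.IsStableUnderBaseChange] (Q : MorphismProperty Scheme.{u}) [Q.IsStableUnderBaseChange] (i₀ : I) {X₀ Y₀ : Scheme.{u}}
    (f₀ : X₀ ⟶ Y₀) (g₀ : Y₀ ⟶ D.obj i₀) [CompactSpace Y₀] [LocallyOfFiniteType f₀] [QuasiCompact f₀] [QuasiSeparated f₀]
    (hQ : Q f₀)
    (hmain : ∀ {J : Type u} [Category.{u} J] [IsCofiltered J] (E : J ⥤ Scheme.{u}) (cE : Cone E), IsLimit cE →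
      ∀ [∀ {a b : J} (g : a ⟶ b), IsAffineHom (E.map g)] {a₀ : J} [CompactSpace (E.obj a₀)] {Z : Scheme.{u}}
        (h₀ : Z ⟶ E.obj a₀) [LocallyOfFiniteType h₀] [QuasiCompact h₀] [QuasiSeparated h₀], Q h₀ →
        P (pullback.fst (cE.π.app a₀) h₀) → ∃ (a : J) (φ : a ⟶ a₀), P (pullback.fst (E.map φ) h₀))
    {X Y : Scheme.{u}} {f : X ⟶ Y} {g : Y ⟶ c.pt} {qY : Y ⟶ Y₀} {qX : X ⟶ X₀}
    (hY : IsPullback qY g g₀ (c.π.app i₀)) (hX : IsPullback qX f f₀ qY) (h : P f) :
    ∃ (i : I) (φ : i ⟶ i₀), P (pullback.snd f₀ (pullback.fst g₀ (D.map φ))) := by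
  haveI : ∀ {i j : I} (f : i ⟶ j), IsAffineHom (D.map f) := fun f => ‹∀ (i j : I) (f : i ⟶ j), IsAffineHom (D.map f)› _ _ f
  let F := Groth.Agent.Lim.Topo.bcDiagram D g₀
  let cF := Groth.Agent.Lim.Topo.bcCone D c g₀
  haveI : ∀ {a b : Over i₀} (w : a ⟶ b), IsAffineHom (F.map w) := fun w =>
    Groth.Agent.Lim.Topo.isAffineHom_bcDiagram_map D g₀ w
  let a₀ : Over i₀ := Over.mk (𝟙 i₀)
  let u₀ : F.obj a₀ ⟶ Y₀ := pullback.snd (D.map a₀.hom) g₀
  haveI : IsAffineHom u₀ := MorphismProperty.pullback_snd (P := @IsAffineHom) _ _ (inferInstance : IsAffineHom (D.map a₀.hom))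
  haveI : CompactSpace (F.obj a₀) := QuasiCompact.compactSpace_of_compactSpace u₀
  let f' := pullback.fst u₀ f₀
  haveI : LocallyOfFiniteType f' := MorphismProperty.pullback_fst _ _ inferInstance
  haveI : QuasiCompact f' := MorphismProperty.pullback_fst _ _ inferInstance
  haveI : QuasiSeparated f' := MorphismProperty.pullback_fst _ _ inferInstance
  have hlim : cF.π.app a₀ ≫ u₀ = hY.flip.isoPullback.inv ≫ qY := by
    simp [cF, u₀, a₀, Groth.Agent.Lim.Topo.bcCone, pullback.map]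
  have hP₀ : P (pullback.fst (cF.π.app a₀) f') := by
    refine of_factor P f₀ qY ?_ hY.flip.isoPullback.inv (q := pullback.snd _ _ ≫ pullback.snd u₀ f₀) ?_
    · rw [← hX.flip.isoPullback_inv_fst, MorphismProperty.cancel_left_of_respectsIso P]; exact h
    · have := (IsPullback.of_hasPullback (cF.π.app a₀) f').flip.paste_horiz (IsPullback.of_hasPullback u₀ f₀).flip
      rwa [hlim] at this
  obtain ⟨a, φ, ha⟩ := hmain F cF (Groth.Agent.Lim.Topo.isLimitBcCone D c hc g₀) f' (MorphismProperty.pullback_fst _ _ hQ) hP₀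
  refine ⟨a.left, a.hom, ?_⟩
  refine of_factor P f' (F.map φ) ha (pullbackSymmetry _ _).hom (q := pullback.lift ((pullback.snd f₀ _) ≫ (pullbackSymmetry _ _).hom ≫ F.map φ) (pullback.fst f₀ _) ?_) ?_
  · simp [F, u₀, f', a₀, Groth.Agent.Lim.Topo.bcDiagram, pullback.condition]
  · refine IsPullback.of_right ?_ (pullback.lift_fst _ _ _) (IsPullback.of_hasPullback u₀ f₀).flip
    rw [pullback.lift_snd]
    have e : ((pullbackSymmetry g₀ (D.map a.hom)).hom ≫ F.map φ) ≫ u₀ = pullback.fst g₀ (D.map a.hom) := by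
      simp [F, u₀, a₀, Groth.Agent.Lim.Topo.bcDiagram]
    exact e.symm ▸ IsPullback.of_hasPullback f₀ (pullback.fst g₀ (D.map a.hom))

end Groth.Agent.Lead.Lim
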