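import Groth.Agent.Lead.Lim.Topo
import Mathlib.Topology.NoetherianSpace
import Mathlib.Topology.Connected.Clopen

/-!
Irreducible and connected components along limits of embeddings.
-/

set_option autoImplicit false

open CategoryTheory Limits AlgebraicGeometry TopologicalSpace Topology

universe u

namespace Groth.Agent.Lead.Lim

section topology

variable {A B : Type*} [TopologicalSpace A] [TopologicalSpace B] {f : A → B} (hf : IsEmbedding f)

include hf in
theorem preimage_closure_image {Y : Set A} (hY : IsClosed Y) : f ⁻¹' closure (f '' Y) = Y := by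
  rw [← hf.isInducing.closure_eq_preimage_closure_image, hY.closure_eq]

include hf in
theorem bijOn_irreducibleComponents [NoetherianSpace A]
    (hcov : ∀ b, ∃ Y ∈ irreducibleComponents A, b ∈ closure (f '' Y)) :
    Set.BijOn (fun Y => closure (f '' Y)) (irreducibleComponents A) (irreducibleComponents B) := by
  classical
  have hfin : (irreducibleComponents A).Finite := NoetherianSpace.finite_irreducibleComponents
  have hirr : ∀ Y ∈ irreducibleComponents A, IsIrreducible (closure (f '' Y)) := fun Y hY =>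
    isIrreducible_iff_closure.2 (hY.1.image f hf.continuous.continuousOn)
  have key : ∀ T : Set B, IsIrreducible T → ∃ Y ∈ irreducibleComponents A, T ⊆ closure (f '' Y) := by
    intro T hT
    obtain ⟨_, hz, hsub⟩ := isIrreducible_iff_sUnion_isClosed.1 hT (hfin.toFinset.image fun Y => closure (f '' Y))
      (fun z hz => by
        obtain ⟨Y, -, rfl⟩ := Finset.mem_image.1 hz
        exact isClosed_closure)
      (fun b _ => by
        obtain ⟨Y, hY, hb⟩ := hcov b
        exact ⟨_, Finset.mem_coe.2 (Finset.mem_image.2 ⟨Y, hfin.mem_toFinset.2 hY, rfl⟩), hb⟩)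
    obtain ⟨Y, hY, rfl⟩ := Finset.mem_image.1 hz
    exact ⟨Y, hfin.mem_toFinset.1 hY, hsub⟩
  have mono : ∀ Y ∈ irreducibleComponents A, ∀ Y' ∈ irreducibleComponents A,
      closure (f '' Y) ⊆ closure (f '' Y') → Y = Y' := fun Y hY Y' hY' h => by
    have := Set.preimage_mono (f := f) h
    rw [preimage_closure_image hf (isClosed_of_mem_irreducibleComponents Y hY),
      preimage_closure_image hf (isClosed_of_mem_irreducibleComponents Y' hY')] at this
    exact subset_antisymm this (hY.2 hY'.1 this)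
  refine ⟨fun Y hY => ⟨hirr Y hY, fun T hT hle => ?_⟩, fun Y hY Y' hY' h => mono Y hY Y' hY' h.le, fun T hT => ?_⟩
  · obtain ⟨Y', hY', h'⟩ := key T hT
    rw [mono Y hY Y' hY' (hle.trans h')]
    exact h'
  · obtain ⟨Y, hY, h⟩ := key T hT.1
    exact ⟨Y, hY, subset_antisymm (hT.2 (hirr Y hY) h) h⟩

theorem finite_range_connectedComponent [NoetherianSpace A] :
    (Set.range (connectedComponent : A → Set A)).Finite := by
  refine ((NoetherianSpace.finite_irreducibleComponents (α := A)).biUnion
    (t := fun Y => {C | ∃ x ∈ Y, connectedComponent x = C}) fun Y hY => ?_).subset ?_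
  · obtain ⟨x₀, hx₀⟩ := hY.1.nonempty
    refine (Set.finite_singleton (connectedComponent x₀)).subset ?_
    rintro _ ⟨x, hx, rfl⟩
    exact connectedComponent_eq (hY.1.isConnected.isPreconnected.subset_connectedComponent hx hx₀) |>.trans rfl
  · rintro _ ⟨x, rfl⟩
    exact Set.mem_iUnion₂.2 ⟨_, irreducibleComponent_mem_irreducibleComponents x, x, mem_irreducibleComponent, rfl⟩

include hf in
theorem bijOn_connectedComponents [NoetherianSpace A]
    (hcov : ∀ b, ∃ C ∈ Set.range (connectedComponent : A → Set A), b ∈ closure (f '' C))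
    (hdisj : ∀ C ∈ Set.range (connectedComponent : A → Set A), ∀ C' ∈ Set.range (connectedComponent : A → Set A),
      C ≠ C' → Disjoint (closure (f '' C)) (closure (f '' C'))) :
    Set.BijOn (fun C => closure (f '' C)) (Set.range (connectedComponent : A → Set A))
      (Set.range (connectedComponent : B → Set B)) := by
  have hclopen : ∀ C ∈ Set.range (connectedComponent : A → Set A), IsClopen (closure (f '' C)) := by
    intro C hC
    refine ⟨isClosed_closure, isClosed_compl_iff.1 ?_⟩
    have e : (closure (f '' C))ᶜ = ⋃ C' ∈ Set.range (connectedComponent : A → Set A) \ {C}, closure (f '' C') := by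
      ext b
      simp only [Set.mem_compl_iff, Set.mem_iUnion₂]
      constructor
      · intro hb
        obtain ⟨C', hC', hb'⟩ := hcov b
        exact ⟨C', ⟨hC', fun h => hb (Set.mem_singleton_iff.1 h ▸ hb')⟩, hb'⟩
      · rintro ⟨C', ⟨hC', hne⟩, hb'⟩ hb
        exact Set.disjoint_left.1 (hdisj C' hC' C hC hne) hb' hb
    rw [e]
    exact (finite_range_connectedComponent.subset Set.diff_subset).isClosed_biUnion fun _ _ => isClosed_closure
  have hconn : ∀ C ∈ Set.range (connectedComponent : A → Set A), IsConnected (closure (f '' C)) := by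
    rintro _ ⟨a, rfl⟩
    exact (isConnected_connectedComponent.image f hf.continuous.continuousOn).closure
  have key : ∀ C ∈ Set.range (connectedComponent : A → Set A), ∀ b ∈ closure (f '' C),
      connectedComponent b = closure (f '' C) := fun C hC b hb =>
    subset_antisymm ((hclopen C hC).connectedComponent_subset hb)
      ((hconn C hC).isPreconnected.subset_connectedComponent hb)
  refine ⟨fun C hC => ?_, fun C hC C' hC' h => ?_, fun T hT => ?_⟩
  · obtain ⟨b, hb⟩ := (hconn C hC).nonempty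
    exact ⟨b, key C hC b hb⟩
  · by_contra hne
    obtain ⟨b, hb⟩ := (hconn C hC).nonempty
    have h' : closure (f '' C) = closure (f '' C') := h
    exact Set.disjoint_left.1 (hdisj C hC C' hC' hne) hb (h' ▸ hb)
  · obtain ⟨b, rfl⟩ := hT
    obtain ⟨C, hC, hb⟩ := hcov b
    exact ⟨C, hC, (key C hC b hb).symm⟩

end topology

variable {I : Type u} [Category.{u} I] [IsCofiltered I] (D : I ⥤ Scheme.{u}) (c : Cone D)
  (hc : IsLimit c) [∀ {i j : I} (f : i ⟶ j), IsAffineHom (D.map f)]
  (he : ∀ (i j : I) (φ : i ⟶ j), IsEmbedding ⇑(D.map φ))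

include hc he in
theorem isEmbedding_π_of_isEmbedding (i : I) : IsEmbedding ⇑(c.π.app i) := by
  have hind : IsInducing ⇑(c.π.app i) := by
    rw [isInducing_iff_nhds]
    intro x
    refine le_antisymm (Filter.map_le_iff_le_comap.1 (c.π.app i).continuous.continuousAt) ?_
    intro s hs
    obtain ⟨U, hUs, hU, hxU⟩ := mem_nhds_iff.1 hs
    obtain ⟨_, ⟨k, V, hV, rfl⟩, hxV, hVU⟩ :=
      Opens.isBasis_iff_nbhd.mp (isBasis_preimage_isAffineOpen D c hc) (U := ⟨U, hU⟩) hxU
    obtain ⟨j, a, b, -⟩ := IsCofilteredOrEmpty.cone_objs i k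
    obtain ⟨W, hW, hWV⟩ := (he j i a).isInducing.isOpen_iff.1 ((D.map b) ⁻¹ᵁ V).2
    have key : ∀ y : c.pt, c.π.app i y ∈ W ↔ c.π.app k y ∈ V := fun y => by
      rw [← c.w a, ← c.w b, Scheme.Hom.comp_apply, Scheme.Hom.comp_apply]
      exact Set.ext_iff.1 hWV (c.π.app j y)
    refine ⟨W, hW.mem_nhds ((key x).2 hxV), fun y hy => hUs (hVU ((key y).1 hy))⟩
  exact hind.isEmbedding

include hc he in
theorem eventually_cover (i₀ : I) [NoetherianSpace (D.obj i₀)] (S : Set (Set c.pt)) (hS : S.Finite)
    (hcov : ∀ x : c.pt, ∃ Y ∈ S, x ∈ Y) :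
    ∃ (i : I) (φ : i ⟶ i₀), ∀ (j : I) (_ : j ⟶ i) (b : D.obj j), ∃ Y ∈ S, b ∈ closure (c.π.app j '' Y) := by
  let Z : Set (D.obj i₀) := ⋃ Y ∈ S, closure (c.π.app i₀ '' Y)
  have hZ : IsClosed Z := hS.isClosed_biUnion fun _ _ => isClosed_closure
  let W : (D.obj i₀).Opens := ⟨Zᶜ, hZ.isOpen_compl⟩
  have hW0 : c.π.app i₀ ⁻¹ᵁ W = ⊥ := by
    refine eq_bot_iff.2 fun x hx => ?_
    obtain ⟨Y, hY, hxY⟩ := hcov x
    exact (hx (Set.mem_iUnion₂.2 ⟨Y, hY, subset_closure ⟨x, hxY, rfl⟩⟩)).elim
  obtain ⟨i, φ, hi⟩ := exists_map_preimage_le_map_preimage D c hc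
    (U := W) (NoetherianSpace.isCompact _) (V := ⊥) (by rw [hW0]; exact bot_le)
  refine ⟨i, φ, fun j g b => ?_⟩
  have hb : D.map (g ≫ φ) b ∈ Z := by
    by_contra hb
    rw [D.map_comp, Scheme.Hom.comp_apply] at hb
    exact (hi (show D.map g b ∈ D.map φ ⁻¹ᵁ W from hb)).elim
  obtain ⟨Y, hY, hbY⟩ := Set.mem_iUnion₂.1 hb
  refine ⟨Y, hY, ?_⟩
  rw [(he j i₀ (g ≫ φ)).isInducing.closure_eq_preimage_closure_image, Set.image_image]
  rw [show (fun x => D.map (g ≫ φ) (c.π.app j x)) = ⇑(c.π.app i₀) from funext fun x => by rw [← Scheme.Hom.comp_apply, c.w]]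
  exact hbY

include hc he in
theorem eventually_disjoint_closure (i₀ : I) [NoetherianSpace (D.obj i₀)] {C C' : Set c.pt}
    (hC : IsClosed C) (hC' : IsClosed C') (hd : Disjoint C C') :
    ∃ (i : I) (φ : i ⟶ i₀), ∀ (j : I) (_ : j ⟶ i), Disjoint (closure (c.π.app j '' C)) (closure (c.π.app j '' C')) := by
  let K := closure (c.π.app i₀ '' C) ∩ closure (c.π.app i₀ '' C')
  obtain ⟨i, φ, hi⟩ := Groth.Agent.Lim.Topo.eventually_empty D c hc (i := i₀) (W := ⊤) (NoetherianSpace.isCompact _)
    (Z := Set.univ) (fun x => ⟨Set.univ, Filter.univ_mem, isOpen_univ, by simp⟩) (C := K)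
    (isClosed_closure.inter isClosed_closure) fun x _ _ hx => by
      have h1 : x ∈ C := by
        rw [← preimage_closure_image (isEmbedding_π_of_isEmbedding D c hc he i₀) hC]; exact hx.1
      have h2 : x ∈ C' := by
        rw [← preimage_closure_image (isEmbedding_π_of_isEmbedding D c hc he i₀) hC']; exact hx.2
      exact Set.disjoint_left.1 hd h1 h2
  refine ⟨i, φ, fun j g => Set.disjoint_left.2 fun b hb hb' => ?_⟩
  have hsub : ∀ Y : Set c.pt, b ∈ closure (c.π.app j '' Y) → D.map (g ≫ φ) b ∈ closure (c.π.app i₀ '' Y) := by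
    intro Y hY
    rw [(he j i₀ (g ≫ φ)).isInducing.closure_eq_preimage_closure_image, Set.image_image] at hY
    rw [show (fun x => D.map (g ≫ φ) (c.π.app j x)) = ⇑(c.π.app i₀) from funext fun x => by rw [← Scheme.Hom.comp_apply, c.w]] at hY
    exact hY
  have hK : D.map (g ≫ φ) b ∈ K := ⟨hsub C hb, hsub C' hb'⟩
  rw [D.map_comp, Scheme.Hom.comp_apply] at hK
  exact hi (D.map g b) trivial trivial hK

end Groth.Agent.Lead.Lim
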