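import Groth.Agent.Lead.Lim.Structure

/-!
Descent of affineness and separatedness along base changed systems.
-/

set_option autoImplicit false
set_option backward.isDefEq.respectTransparency false
set_option backward.defeqAttrib.useBackward true

open CategoryTheory Limits AlgebraicGeometry TopologicalSpace

universe u

namespace Groth.Agent.Lead.Lim

variable {I : Type u} [Category.{u} I] [IsCofiltered I] (D : I ⥤ Scheme.{u}) (c : Cone D) (hc : IsLimit c)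
  [∀ {i j : I} (f : i ⟶ j), IsAffineHom (D.map f)]

include hc in
theorem exists_descend (P : MorphismProperty Scheme.{u}) [P.RespectsIso] (hPcomp : P.IsStableUnderComposition)
    (hPaff : ∀ {A B : Scheme.{u}} (g : A ⟶ B), IsAffineHom g → P g)
    (hPcancel : ∀ {A B C : Scheme.{u}} (a : A ⟶ B) (b : B ⟶ C), IsAffineHom b → P (a ≫ b) → P a)
    (hmain : ∀ {J : Type u} [Category.{u} J] [IsCofiltered J] (E : J ⥤ Scheme.{u}) (cE : Cone E), IsLimit cE →
      ∀ [∀ {a b : J} (g : a ⟶ b), IsAffineHom (E.map g)] [∀ a, CompactSpace (E.obj a)] [∀ a, QuasiSeparatedSpace (E.obj a)]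
        {S : Scheme.{u}} [CompactSpace S] [QuasiSeparatedSpace S] (a₀ : J) (t₀ : E.obj a₀ ⟶ S),
        P (cE.π.app a₀ ≫ t₀) → ∃ (a : J) (φ : a ⟶ a₀), P (E.map φ ≫ t₀))
    (i₀ : I) {X₀ Y₀ : Scheme.{u}} (f₀ : X₀ ⟶ Y₀) (g₀ : Y₀ ⟶ D.obj i₀)
    [CompactSpace X₀] [QuasiSeparatedSpace X₀] [CompactSpace Y₀] [QuasiSeparatedSpace Y₀]
    {X Y : Scheme.{u}} (f : X ⟶ Y) (g : Y ⟶ c.pt) (qY : Y ⟶ Y₀) (qX : X ⟶ X₀)
    (hY : IsPullback qY g g₀ (c.π.app i₀)) (hX : IsPullback qX f f₀ qY) (hf : P f) :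
    ∃ (i : I) (φ : i ⟶ i₀) (Xi Yi : Scheme.{u}) (fi : Xi ⟶ Yi) (gi : Yi ⟶ D.obj i) (pY : Yi ⟶ Y₀)
      (pX : Xi ⟶ X₀), IsPullback pY gi g₀ (D.map φ) ∧ IsPullback pX fi f₀ pY ∧ P fi := by
  haveI : ∀ i, IsAffineHom (c.π.app i) := fun i => isAffineHom_π_app _ _ hc i
  let E := Groth.Agent.Lim.Topo.bcDiagram D (f₀ ≫ g₀)
  let cE := Groth.Agent.Lim.Topo.bcCone D c (f₀ ≫ g₀)
  haveI : ∀ {a b : Over i₀} (w : a ⟶ b), IsAffineHom (E.map w) := fun w =>
    Groth.Agent.Lim.Topo.isAffineHom_bcDiagram_map D (f₀ ≫ g₀) w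
  haveI (a : Over i₀) : IsAffineHom (pullback.snd (D.map a.hom) (f₀ ≫ g₀)) :=
    MorphismProperty.pullback_snd (P := @IsAffineHom) _ _ (inferInstance : IsAffineHom (D.map a.hom))
  haveI (a : Over i₀) : QuasiCompact (pullback.snd (D.map a.hom) (f₀ ≫ g₀)) :=
    @instQuasiCompactOfIsAffineHom _ _ _ (this a)
  haveI (a : Over i₀) : CompactSpace (E.obj a) :=
    QuasiCompact.compactSpace_of_compactSpace (pullback.snd (D.map a.hom) (f₀ ≫ g₀))
  haveI (a : Over i₀) : QuasiSeparatedSpace (E.obj a) :=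
    quasiSeparatedSpace_of_quasiSeparated (pullback.snd (D.map a.hom) (f₀ ≫ g₀))
  let a₀ : Over i₀ := Over.mk (𝟙 i₀)
  let t₀ : E.obj a₀ ⟶ Y₀ := pullback.snd (D.map a₀.hom) (f₀ ≫ g₀) ≫ f₀
  haveI : IsAffineHom qY := MorphismProperty.of_isPullback (P := @IsAffineHom) hY.flip inferInstance
  have hlim : P (cE.π.app a₀ ≫ t₀) := by
    have e : (hX.paste_vert hY).flip.isoPullback.hom ≫ cE.π.app a₀ ≫ t₀ = f ≫ qY := by
      show _ ≫ pullback.map (c.π.app i₀) (f₀ ≫ g₀) (D.map a₀.hom) (f₀ ≫ g₀) (c.π.app a₀.left) (𝟙 X₀) (𝟙 _) (by simp [a₀]) (by simp) ≫ pullback.snd _ _ ≫ f₀ = _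
      rw [pullback.lift_snd_assoc, Category.assoc, Category.id_comp, IsPullback.isoPullback_hom_snd_assoc, hX.w]
    have := hPcomp.comp_mem f qY hf (hPaff qY inferInstance)
    rwa [← e, MorphismProperty.cancel_left_of_respectsIso P] at this
  obtain ⟨a, φ, h⟩ := hmain E cE (Groth.Agent.Lim.Topo.isLimitBcCone D c hc (f₀ ≫ g₀)) a₀ t₀ hlim
  let pY := pullback.fst g₀ (D.map a.hom)
  refine ⟨a.left, a.hom, pullback f₀ pY, pullback g₀ (D.map a.hom), pullback.snd f₀ pY, pullback.snd _ _, pY,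
    pullback.fst f₀ pY, IsPullback.of_hasPullback _ _, IsPullback.of_hasPullback _ _, ?_⟩
  haveI : IsAffineHom pY := MorphismProperty.pullback_fst (P := @IsAffineHom) _ _ (inferInstance : IsAffineHom (D.map a.hom))
  refine hPcancel _ pY inferInstance ?_
  rw [← pullback.condition]
  have e1 : E.map φ ≫ t₀ = pullback.snd (D.map a.hom) (f₀ ≫ g₀) ≫ f₀ := by
    simp [E, t₀, Groth.Agent.Lim.Topo.bcDiagram]
  rw [e1] at h
  have hsq := ((IsPullback.of_hasPullback f₀ pY).paste_vert (IsPullback.of_hasPullback g₀ (D.map a.hom))).flip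
  rw [← hsq.isoPullback_hom_snd, Category.assoc, MorphismProperty.cancel_left_of_respectsIso P]
  exact h

end Groth.Agent.Lead.Lim
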