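import Groth.Agent.Lead.Lim.DescendStr
import Groth.Agent.S9218
import Groth.Agent.S9219
import Groth.Agent.Mor.Cancel
import Mathlib.AlgebraicGeometry.Morphisms.UniversallyInjective
import Mathlib.AlgebraicGeometry.Morphisms.FinitePresentation

/-!
Descent of isomorphisms, surjectivity and radicial morphisms along limits.
-/

set_option autoImplicit false
set_option backward.isDefEq.respectTransparency false
set_option backward.defeqAttrib.useBackward true

open CategoryTheory Limits AlgebraicGeometry TopologicalSpace Topology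

universe u

namespace Groth.Agent.Lead.Lim

section pasting

variable {X₀ Y₀ S : Scheme.{u}} {f₀ : X₀ ⟶ Y₀} {g₀ : Y₀ ⟶ S}

/-- isomorphy of a morphism between two base changes does not depend on the chosen base changes -/
theorem isIso_map_iff {A₀ B₀ T A B : Scheme.{u}} {a : A₀ ⟶ S} {b : B₀ ⟶ S} {t : T ⟶ S} {h₀ : A₀ ⟶ B₀}
    (hh : h₀ ≫ b = a) {pA : A ⟶ A₀} {gA : A ⟶ T} (hA : IsPullback pA gA a t)
    {pB : B ⟶ B₀} {gB : B ⟶ T} (hB : IsPullback pB gB b t) {h : A ⟶ B} (h1 : h ≫ pB = pA ≫ h₀) (h2 : h ≫ gB = gA) :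
    IsIso (pullback.map a t b t h₀ (𝟙 T) (𝟙 S) (by simp [hh]) (by simp)) ↔ IsIso h := by
  have e : hA.isoPullback.hom ≫ pullback.map a t b t h₀ (𝟙 T) (𝟙 S) (by simp [hh]) (by simp) =
      h ≫ hB.isoPullback.hom := by
    apply pullback.hom_ext
    · rw [Category.assoc, pullback.lift_fst, Category.assoc, IsPullback.isoPullback_hom_fst, h1,
        IsPullback.isoPullback_hom_fst_assoc]
    · rw [Category.assoc, pullback.lift_snd, Category.assoc, IsPullback.isoPullback_hom_snd, h2, Category.comp_id,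
        IsPullback.isoPullback_hom_snd]
  constructor
  · intro hm
    haveI : IsIso (h ≫ hB.isoPullback.hom) := by rw [← e]; infer_instance
    exact IsIso.of_isIso_comp_right h hB.isoPullback.hom
  · intro hm
    haveI : IsIso (hA.isoPullback.hom ≫ pullback.map a t b t h₀ (𝟙 T) (𝟙 S) (by simp [hh]) (by simp)) := by
      rw [e]; infer_instance
    exact IsIso.of_isIso_comp_left hA.isoPullback.hom _

variable {X Y T : Scheme.{u}} {f : X ⟶ Y} {g : Y ⟶ T} {qY : Y ⟶ Y₀} {qX : X ⟶ X₀} {t : T ⟶ S}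

/-- the square of fibre products -/
theorem isPullback_fstMap (hX : IsPullback qX f f₀ qY) :
    IsPullback (pullback.map f f f₀ f₀ qX qX qY hX.w.symm hX.w.symm) (pullback.fst f f) (pullback.fst f₀ f₀) qX := by
  have t' : IsPullback (pullback.snd f₀ f₀) (pullback.fst f₀ f₀) f₀ f₀ := (IsPullback.of_hasPullback f₀ f₀).flip
  have s' : IsPullback (pullback.snd f f ≫ qX) (pullback.fst f f) f₀ (f ≫ qY) :=
    (IsPullback.of_hasPullback f f).flip.paste_horiz hX
  refine IsPullback.of_right ?_ (pullback.lift_fst _ _ _) t'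
  convert s' using 1
  · rw [pullback.lift_snd]
  · exact hX.w

end pasting

variable {I : Type u} [SmallCategory I] [IsCofiltered I] (D : I ⥤ Scheme.{u}) (c : Cone D) (hc : IsLimit c)
  [∀ (i j : I) (f : i ⟶ j), IsAffineHom (D.map f)]

include hc in
/-- an isomorphism at the limit is one at some stage -/
theorem exists_isIso_descend (i : I) {A₀ B₀ : Scheme.{u}} (a : A₀ ⟶ D.obj i) (b : B₀ ⟶ D.obj i)
    [CompactSpace A₀] [QuasiSeparatedSpace A₀] [LocallyOfFinitePresentation a]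
    [CompactSpace B₀] [QuasiSeparatedSpace B₀] [LocallyOfFinitePresentation b]
    (h₀ : A₀ ⟶ B₀) (hh : h₀ ≫ b = a)
    (hl : IsIso (pullback.map a (c.π.app i) b (c.π.app i) h₀ (𝟙 _) (𝟙 _) (by simp [hh]) (by simp))) :
    ∃ (k : I) (χ : k ⟶ i), IsIso (pullback.map a (D.map χ) b (D.map χ) h₀ (𝟙 _) (𝟙 _) (by simp [hh]) (by simp)) := by
  haveI : ∀ {i j : I} (f : i ⟶ j), IsAffineHom (D.map f) := fun f => ‹∀ (i j : I) (f : i ⟶ j), IsAffineHom (D.map f)› _ _ f
  set L := pullback.map a (c.π.app i) b (c.π.app i) h₀ (𝟙 _) (𝟙 _) (by simp [hh]) (by simp) with hL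
  have hLsnd : inv L ≫ pullback.snd a (c.π.app i) = pullback.snd b (c.π.app i) := by
    rw [IsIso.inv_comp_eq, hL, pullback.lift_snd, Category.comp_id]
  obtain ⟨j, φ, fj, sX, sY, e₁, e₂, e₃, e₄, e₅, e₆⟩ := Groth.Agent.S9218.result D c hc i b a
    (pullback.fst b (c.π.app i)) (pullback.snd b (c.π.app i)) (IsPullback.of_hasPullback _ _)
    (pullback.fst a (c.π.app i)) (pullback.snd a (c.π.app i)) (IsPullback.of_hasPullback _ _) (inv L) hLsnd
  let hφ := pullback.map a (D.map φ) b (D.map φ) h₀ (𝟙 _) (𝟙 _) (by simp [hh]) (by simp)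
  haveI : IsAffineHom (pullback.fst a (D.map φ)) :=
    MorphismProperty.pullback_fst (P := @IsAffineHom) _ _ (inferInstance : IsAffineHom (D.map φ))
  haveI : IsAffineHom (pullback.fst b (D.map φ)) :=
    MorphismProperty.pullback_fst (P := @IsAffineHom) _ _ (inferInstance : IsAffineHom (D.map φ))
  haveI : CompactSpace ↥(pullback a (D.map φ)) := QuasiCompact.compactSpace_of_compactSpace (pullback.fst a (D.map φ))
  haveI : QuasiSeparatedSpace ↥(pullback a (D.map φ)) := quasiSeparatedSpace_of_quasiSeparated (pullback.fst a (D.map φ))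
  haveI : CompactSpace ↥(pullback b (D.map φ)) := QuasiCompact.compactSpace_of_compactSpace (pullback.fst b (D.map φ))
  haveI : QuasiSeparatedSpace ↥(pullback b (D.map φ)) := quasiSeparatedSpace_of_quasiSeparated (pullback.fst b (D.map φ))
  haveI : LocallyOfFinitePresentation (pullback.snd a (D.map φ)) := MorphismProperty.pullback_snd _ _ inferInstance
  haveI : LocallyOfFinitePresentation (pullback.snd b (D.map φ)) := MorphismProperty.pullback_snd _ _ inferInstance
  have hφsnd : hφ ≫ pullback.snd b (D.map φ) = pullback.snd a (D.map φ) := by simp [hφ, pullback.map]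
  have hsA : IsPullback sY (pullback.snd a (c.π.app i)) (pullback.snd a (D.map φ)) (c.π.app j) := by
    refine IsPullback.of_right ?_ e₅ (IsPullback.of_hasPullback a (D.map φ))
    rw [e₄, c.w]
    exact IsPullback.of_hasPullback _ _
  have hsB : IsPullback sX (pullback.snd b (c.π.app i)) (pullback.snd b (D.map φ)) (c.π.app j) := by
    refine IsPullback.of_right ?_ e₃ (IsPullback.of_hasPullback b (D.map φ))
    rw [e₂, c.w]
    exact IsPullback.of_hasPullback _ _
  have eA : sY ≫ hφ = L ≫ sX := by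
    apply pullback.hom_ext
    · rw [Category.assoc, Category.assoc, e₂, pullback.lift_fst, reassoc_of% e₄, hL, pullback.lift_fst]
    · rw [Category.assoc, Category.assoc, e₃, hφsnd, e₅, hL, pullback.lift_snd_assoc, Category.comp_id]
  obtain ⟨m₁, ψ₁, E₁⟩ := Groth.Agent.S9219.result D c hc j (pullback.snd a (D.map φ)) (pullback.snd a (D.map φ))
    sY (pullback.snd a (c.π.app i)) hsA (hφ ≫ fj) (𝟙 _) (by rw [Category.assoc, e₁, hφsnd]) (Category.id_comp _)
    (by rw [Category.comp_id, reassoc_of% eA, e₆, IsIso.hom_inv_id_assoc])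
  obtain ⟨m₂, ψ₂, E₂⟩ := Groth.Agent.S9219.result D c hc j (pullback.snd b (D.map φ)) (pullback.snd b (D.map φ))
    sX (pullback.snd b (c.π.app i)) hsB (fj ≫ hφ) (𝟙 _) (by rw [Category.assoc, hφsnd, e₁]) (Category.id_comp _)
    (by rw [Category.comp_id, reassoc_of% e₆, eA, IsIso.inv_hom_id_assoc])
  obtain ⟨k, n₁, n₂, hn⟩ := IsCofiltered.cospan ψ₁ ψ₂
  obtain ⟨χ, hχ⟩ : ∃ χ, χ = n₁ ≫ ψ₁ := ⟨_, rfl⟩
  refine ⟨k, χ ≫ φ, ?_⟩
  let rA : pullback a (D.map (χ ≫ φ)) ⟶ pullback a (D.map φ) :=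
    pullback.lift (pullback.fst _ _) (pullback.snd _ _ ≫ D.map χ) (by rw [pullback.condition, Category.assoc, ← D.map_comp])
  let rB : pullback b (D.map (χ ≫ φ)) ⟶ pullback b (D.map φ) :=
    pullback.lift (pullback.fst _ _) (pullback.snd _ _ ≫ D.map χ) (by rw [pullback.condition, Category.assoc, ← D.map_comp])
  have key : ∀ {Z W : Scheme.{u}} {m : I} (ψ : m ⟶ j) (n : k ⟶ m) (_ : n ≫ ψ = χ) (p : W ⟶ D.obj j) (u : W ⟶ W)
      (r : Z ⟶ W) (q : Z ⟶ D.obj k) (_ : r ≫ p = q ≫ D.map χ)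
      (_ : pullback.fst p (D.map ψ) ≫ u = pullback.fst p (D.map ψ) ≫ 𝟙 _), r ≫ u = r := by
    intro Z W m ψ n hnψ p u r q hr hu
    have e : r = pullback.lift r (q ≫ D.map n) (by rw [hr, Category.assoc, ← D.map_comp, hnψ]) ≫ pullback.fst p (D.map ψ) :=
      (pullback.lift_fst _ _ _).symm
    rw [e, Category.assoc, hu, Category.comp_id]
  have kA : rA ≫ hφ ≫ fj = rA := key ψ₁ n₁ hχ.symm (pullback.snd a (D.map φ)) _ rA (pullback.snd _ _) (pullback.lift_snd _ _ _) E₁
  have kB : rB ≫ fj ≫ hφ = rB := key ψ₂ n₂ (hn.symm.trans hχ.symm) (pullback.snd b (D.map φ)) _ rB (pullback.snd _ _) (pullback.lift_snd _ _ _) E₂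
  refine ⟨pullback.lift (rB ≫ fj ≫ pullback.fst a (D.map φ)) (pullback.snd _ _) ?_, ?_, ?_⟩
  · rw [Category.assoc, Category.assoc, pullback.condition, reassoc_of% e₁, pullback.lift_snd_assoc, Category.assoc,
      ← D.map_comp]
  · have eH : pullback.map a (D.map (χ ≫ φ)) b (D.map (χ ≫ φ)) h₀ (𝟙 _) (𝟙 _) (by simp [hh]) (by simp) ≫ rB = rA ≫ hφ := by
      apply pullback.hom_ext
      · simp [rA, rB, hφ, pullback.map]
      · simp [rA, rB, hφ, pullback.map]
    apply pullback.hom_ext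
    · rw [Category.assoc, pullback.lift_fst, reassoc_of% eH, reassoc_of% kA, pullback.lift_fst, Category.id_comp]
    · simp [pullback.map]
  · apply pullback.hom_ext
    · rw [Category.assoc, pullback.lift_fst, pullback.lift_fst_assoc, Category.assoc, Category.assoc, Category.id_comp]
      have e : hφ ≫ pullback.fst b (D.map φ) = pullback.fst a (D.map φ) ≫ h₀ := pullback.lift_fst _ _ _
      rw [← e, reassoc_of% kB, pullback.lift_fst]
    · simp [pullback.map]

include hc in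
/-- a constructible set containing the base change to the limit contains some stage -/
theorem exists_forall_mem (i₀ : I) [CompactSpace (D.obj i₀)] {Y₀ : Scheme.{u}} (g₀ : Y₀ ⟶ D.obj i₀) [CompactSpace Y₀]
    {C : Set Y₀} (hC : IsLocallyConstructible C)
    (h : ∀ y : ↥(pullback g₀ (c.π.app i₀)), pullback.fst g₀ (c.π.app i₀) y ∈ C) :
    ∃ (i : I) (φ : i ⟶ i₀), ∀ y : ↥(pullback g₀ (D.map φ)), pullback.fst g₀ (D.map φ) y ∈ C := by
  haveI : ∀ {i j : I} (f : i ⟶ j), IsAffineHom (D.map f) := fun f => ‹∀ (i j : I) (f : i ⟶ j), IsAffineHom (D.map f)› _ _ f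
  let F := Groth.Agent.Lim.Topo.bcDiagram D g₀
  let cF := Groth.Agent.Lim.Topo.bcCone D c g₀
  haveI : ∀ {a b : Over i₀} (w : a ⟶ b), IsAffineHom (F.map w) := fun w => Groth.Agent.Lim.Topo.isAffineHom_bcDiagram_map D g₀ w
  let a₀ : Over i₀ := Over.mk (𝟙 i₀)
  haveI : IsAffineHom (pullback.snd (D.map a₀.hom) g₀) :=
    MorphismProperty.pullback_snd (P := @IsAffineHom) _ _ (inferInstance : IsAffineHom (D.map a₀.hom))
  haveI : QuasiCompact (pullback.snd (D.map a₀.hom) g₀) := @instQuasiCompactOfIsAffineHom _ _ _ this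
  haveI : CompactSpace (F.obj a₀) := QuasiCompact.compactSpace_of_compactSpace (pullback.snd (D.map a₀.hom) g₀)
  obtain ⟨a, w, ha⟩ := Groth.Agent.Lim.Topo.eventually_subset F cF (Groth.Agent.Lim.Topo.isLimitBcCone D c hc g₀)
    (i := a₀) (Z := Set.univ) (Z' := (pullback.snd (D.map a₀.hom) g₀) ⁻¹' C)
    (fun x => ⟨Set.univ, Filter.univ_mem, isOpen_univ, by simp⟩)
    (Groth.Agent.Lim.Topo.isLocallyConstructible_preimage (pullback.snd (D.map a₀.hom) g₀) hC) (fun z _ => by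
      have := h ((pullbackSymmetry (c.π.app i₀) g₀).hom z)
      rw [← Scheme.Hom.comp_apply, pullbackSymmetry_hom_comp_fst] at this
      show (cF.π.app a₀ ≫ pullback.snd (D.map a₀.hom) g₀) z ∈ C
      have e : cF.π.app a₀ ≫ pullback.snd (D.map a₀.hom) g₀ = pullback.snd (c.π.app i₀) g₀ :=
        (pullback.lift_snd _ _ _).trans (Category.comp_id _)
      rw [e]
      exact this)
  refine ⟨a.left, a.hom, fun y => ?_⟩
  have h2 := ha (Set.mem_univ ((pullbackSymmetry g₀ (D.map a.hom)).hom y))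
  have e : (pullbackSymmetry g₀ (D.map a.hom)).hom ≫ F.map w ≫ pullback.snd (D.map a₀.hom) g₀ = pullback.fst g₀ (D.map a.hom) := by
    simp [F, Groth.Agent.Lim.Topo.bcDiagram]
  rw [← e]
  exact h2

section applications

omit [IsCofiltered I] [∀ (i j : I) (f : i ⟶ j), IsAffineHom (D.map f)] in
theorem source_props {S X₀ Y₀ : Scheme.{u}} (f₀ : X₀ ⟶ Y₀) (g₀ : Y₀ ⟶ S) [CompactSpace S] [QuasiSeparatedSpace S]
    [LocallyOfFinitePresentation g₀] [QuasiCompact g₀] [QuasiSeparated g₀]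
    [LocallyOfFinitePresentation (f₀ ≫ g₀)] [QuasiCompact (f₀ ≫ g₀)] [QuasiSeparated (f₀ ≫ g₀)] :
    CompactSpace X₀ ∧ QuasiSeparatedSpace X₀ ∧ CompactSpace Y₀ ∧ QuasiSeparatedSpace Y₀ ∧
      LocallyOfFinitePresentation f₀ ∧ QuasiCompact f₀ ∧ QuasiSeparated f₀ :=
  ⟨QuasiCompact.compactSpace_of_compactSpace (f₀ ≫ g₀), quasiSeparatedSpace_of_quasiSeparated (f₀ ≫ g₀),
    QuasiCompact.compactSpace_of_compactSpace g₀, quasiSeparatedSpace_of_quasiSeparated g₀,
    Mor.Cancel.locallyOfFinitePresentation_of_comp f₀ g₀, QuasiCompact.of_comp f₀ g₀, QuasiSeparated.of_comp f₀ g₀⟩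

/-- the square of the diagonals -/
theorem isPullback_diagMap {X₀ Y₀ X Y : Scheme.{u}} {f₀ : X₀ ⟶ Y₀} {f : X ⟶ Y} {qY : Y ⟶ Y₀} {qX : X ⟶ X₀}
    (hX : IsPullback qX f f₀ qY) :
    IsPullback qX (pullback.diagonal f) (pullback.diagonal f₀)
      (pullback.map f f f₀ f₀ qX qX qY hX.w.symm hX.w.symm) := by
  refine IsPullback.of_bot ?_ ?_ (isPullback_fstMap hX)
  · rw [pullback.diagonal_fst, pullback.diagonal_fst]
    exact IsPullback.of_id_snd
  · apply pullback.hom_ext <;> simp [pullback.map]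

theorem isIso_diag_iff {S X₀ Y₀ T X Y : Scheme.{u}} (f₀ : X₀ ⟶ Y₀) (g₀ : Y₀ ⟶ S) (t : T ⟶ S) (f : X ⟶ Y) (g : Y ⟶ T)
    (qY : Y ⟶ Y₀) (qX : X ⟶ X₀) (hY : IsPullback qY g g₀ t) (hX : IsPullback qX f f₀ qY) :
    IsIso (pullback.map (f₀ ≫ g₀) t (pullback.fst f₀ f₀ ≫ f₀ ≫ g₀) t (pullback.diagonal f₀) (𝟙 T) (𝟙 S)
      (by simp) (by simp)) ↔ Mono f := by
  rw [← pullback.isIso_diagonal_iff f]
  exact isIso_map_iff (pullback.diagonal_fst_assoc _ _) (hX.paste_vert hY)
    ((isPullback_fstMap hX).paste_vert (hX.paste_vert hY)) (isPullback_diagMap hX).w.symm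
    (pullback.diagonal_fst_assoc _ _)

variable (i₀ : I) [CompactSpace (D.obj i₀)] [QuasiSeparatedSpace (D.obj i₀)] {X₀ Y₀ : Scheme.{u}}
  (f₀ : X₀ ⟶ Y₀) (g₀ : Y₀ ⟶ D.obj i₀) [LocallyOfFinitePresentation g₀] [QuasiCompact g₀] [QuasiSeparated g₀]
  [LocallyOfFinitePresentation (f₀ ≫ g₀)] [QuasiCompact (f₀ ≫ g₀)] [QuasiSeparated (f₀ ≫ g₀)]
  {X Y : Scheme.{u}} {f : X ⟶ Y} {g : Y ⟶ c.pt} {qY : Y ⟶ Y₀} {qX : X ⟶ X₀}
  (hY : IsPullback qY g g₀ (c.π.app i₀)) (hX : IsPullback qX f f₀ qY)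

include hc hY hX in
theorem exists_surjective [Surjective f] :
    ∃ (i : I) (φ : i ⟶ i₀), Surjective (pullback.snd f₀ (pullback.fst g₀ (D.map φ))) := by
  obtain ⟨_, _, _, _, _, _, _⟩ := source_props f₀ g₀
  obtain ⟨i, φ, h⟩ := exists_forall_mem D c hc i₀ g₀ (C := Set.range f₀)
    (by
      rw [← Set.image_univ]
      exact f₀.isLocallyConstructible_image (fun x => ⟨Set.univ, Filter.univ_mem, isOpen_univ, by simp⟩))
    (fun y => by
      obtain ⟨x, hx⟩ := f.surjective (hY.isoPullback.inv y)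
      refine ⟨qX x, ?_⟩
      rw [← Scheme.Hom.comp_apply, hX.w, Scheme.Hom.comp_apply, hx, ← Scheme.Hom.comp_apply, IsPullback.isoPullback_inv_fst])
  refine ⟨i, φ, ⟨Set.range_eq_univ.1 ?_⟩⟩
  rw [Scheme.Pullback.range_snd]
  exact Set.eq_univ_of_forall fun y => h y

include hc hY hX in
theorem exists_universallyInjective [UniversallyInjective f] :
    ∃ (i : I) (φ : i ⟶ i₀), UniversallyInjective (pullback.snd f₀ (pullback.fst g₀ (D.map φ))) := by
  obtain ⟨_, _, _, _, _, _, _⟩ := source_props f₀ g₀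
  haveI : QuasiCompact (pullback.fst f₀ f₀ ≫ f₀ ≫ g₀) := inferInstance
  haveI : CompactSpace ↥(pullback f₀ f₀) := QuasiCompact.compactSpace_of_compactSpace (pullback.fst f₀ f₀ ≫ f₀ ≫ g₀)
  haveI := Mor.Cancel.locallyOfFinitePresentation_diagonal f₀
  haveI : QuasiCompact (pullback.diagonal f₀) := QuasiSeparated.quasiCompact_diagonal
  haveI := (UniversallyInjective.iff_diagonal f).1 inferInstance
  let W := (isPullback_fstMap hX).paste_vert (hX.paste_vert hY)
  obtain ⟨i, φ, h⟩ := exists_forall_mem D c hc i₀ (pullback.fst f₀ f₀ ≫ f₀ ≫ g₀) (C := Set.range (pullback.diagonal f₀))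
    (by
      rw [← Set.image_univ]
      exact (pullback.diagonal f₀).isLocallyConstructible_image (fun x => ⟨Set.univ, Filter.univ_mem, isOpen_univ, by simp⟩))
    (fun y => by
      obtain ⟨x, hx⟩ := (pullback.diagonal f).surjective (W.isoPullback.inv y)
      refine ⟨qX x, ?_⟩
      rw [← Scheme.Hom.comp_apply, (isPullback_diagMap hX).w, Scheme.Hom.comp_apply, hx, ← Scheme.Hom.comp_apply,
        IsPullback.isoPullback_inv_fst])
  refine ⟨i, φ, (UniversallyInjective.iff_diagonal _).2 ⟨fun z => ?_⟩⟩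
  have hi : IsPullback (pullback.fst f₀ (pullback.fst g₀ (D.map φ))) (pullback.snd f₀ (pullback.fst g₀ (D.map φ))) f₀
      (pullback.fst g₀ (D.map φ)) := IsPullback.of_hasPullback _ _
  let Wi := (isPullback_fstMap hi).paste_vert (hi.paste_vert (IsPullback.of_hasPullback g₀ (D.map φ)))
  obtain ⟨x₀, hx₀⟩ := h (Wi.isoPullback.hom z)
  rw [← Scheme.Hom.comp_apply Wi.isoPullback.hom, IsPullback.isoPullback_hom_fst] at hx₀
  obtain ⟨p, -, hp⟩ := Scheme.exists_preimage_of_isPullback (isPullback_diagMap hi) x₀ z hx₀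
  exact ⟨p, hp⟩

include hc hY hX in
theorem exists_mono [Mono f] :
    ∃ (i : I) (φ : i ⟶ i₀), Mono (pullback.snd f₀ (pullback.fst g₀ (D.map φ))) := by
  obtain ⟨_, _, _, _, _, _, _⟩ := source_props f₀ g₀
  haveI : QuasiCompact (pullback.fst f₀ f₀ ≫ f₀ ≫ g₀) := inferInstance
  haveI : QuasiSeparated (pullback.fst f₀ f₀ ≫ f₀ ≫ g₀) := inferInstance
  haveI : CompactSpace ↥(pullback f₀ f₀) := QuasiCompact.compactSpace_of_compactSpace (pullback.fst f₀ f₀ ≫ f₀ ≫ g₀)
  haveI : QuasiSeparatedSpace ↥(pullback f₀ f₀) := quasiSeparatedSpace_of_quasiSeparated (pullback.fst f₀ f₀ ≫ f₀ ≫ g₀)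
  haveI : LocallyOfFinitePresentation (pullback.fst f₀ f₀) := MorphismProperty.pullback_fst _ _ inferInstance
  obtain ⟨i, φ, h⟩ := exists_isIso_descend D c hc i₀ (f₀ ≫ g₀) (pullback.fst f₀ f₀ ≫ f₀ ≫ g₀) (pullback.diagonal f₀)
    (pullback.diagonal_fst_assoc _ _) ((isIso_diag_iff f₀ g₀ (c.π.app i₀) f g qY qX hY hX).2 inferInstance)
  exact ⟨i, φ, (isIso_diag_iff f₀ g₀ (D.map φ) _ _ _ _ (IsPullback.of_hasPullback _ _) (IsPullback.of_hasPullback _ _)).1 h⟩

end applications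

end Groth.Agent.Lead.Lim
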