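import Groth.Agent.Lead.Lim.Stalk
import Mathlib.AlgebraicGeometry.Morphisms.Flat
import Mathlib.RingTheory.Flat.EquationalCriterion

/-! Projections from limits along flat affine transition maps are flat. -/

set_option autoImplicit false

open CategoryTheory Limits AlgebraicGeometry TopologicalSpace Opposite

universe u

namespace Groth.Agent.Lead.Lim

variable {I : Type u} [Category.{u} I] [IsCofiltered I] (D : I ⥤ Scheme.{u}) (c : Cone D)
  (hc : IsLimit c) [∀ {i j : I} (f : i ⟶ j), IsAffineHom (D.map f)]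

/-- transition map on stalks -/
noncomputable def tr {i j : I} (φ : j ⟶ i) (x : c.pt) :
    (D.obj i).presheaf.stalk (c.π.app i x) ⟶ (D.obj j).presheaf.stalk (c.π.app j x) :=
  (D.obj i).presheaf.stalkSpecializes (Specializes.of_eq (by rw [← Scheme.Hom.comp_apply, c.w])) ≫
    (D.map φ).stalkMap (c.π.app j x)

omit [IsCofiltered I] [∀ {i j : I} (f : i ⟶ j), IsAffineHom (D.map f)] in
theorem stalkMap_tr {i j : I} (φ : j ⟶ i) (x : c.pt) (b : (D.obj i).presheaf.stalk (c.π.app i x)) :
    (c.π.app j).stalkMap x (tr D c φ x b) = (c.π.app i).stalkMap x b :=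
  (stalkMap_comp_π D c φ x b).symm

omit [IsCofiltered I] [∀ {i j : I} (f : i ⟶ j), IsAffineHom (D.map f)] in
theorem flat_tr {i j : I} (φ : j ⟶ i) (x : c.pt) (h : AlgebraicGeometry.Flat (D.map φ)) :
    (tr D c φ x).hom.Flat := by
  have := isIso_stalkSpecializes (X := D.obj i)
    (show D.map φ (c.π.app j x) = c.π.app i x by rw [← Scheme.Hom.comp_apply, c.w])
  rw [tr, CommRingCat.hom_comp]
  exact RingHom.Flat.comp (RingHom.Flat.of_bijective (ConcreteCategory.bijective_of_isIso _))
    (AlgebraicGeometry.Flat.stalkMap (D.map φ) _)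

include hc in
theorem flat_π (i : I) (hf : ∀ (j : I) (φ : j ⟶ i), AlgebraicGeometry.Flat (D.map φ)) :
    AlgebraicGeometry.Flat (c.π.app i) := by
  refine AlgebraicGeometry.Flat.of_stalkMap _ fun x => ?_
  let R := (D.obj i).presheaf.stalk (c.π.app i x)
  let S := c.pt.presheaf.stalk x
  letI : Algebra R S := ((c.π.app i).stalkMap x).hom.toAlgebra
  show Module.Flat R S
  refine Module.Flat.of_forall_isTrivialRelation fun {n f z} hfz => ?_
  classical
  choose k b hb using fun q => exists_stalkMap_eq D c hc x (z q)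
  obtain ⟨l, hl⟩ := IsCofiltered.inf_objs_exists (Finset.univ.image k ∪ {i})
  have a : l ⟶ i := (hl (X := i) (by simp)).some
  have p : ∀ q, l ⟶ k q := fun q => (hl (X := k q) (by simp)).some
  let y := fun q => tr D c (p q) x (b q)
  have hy : ∀ q, (c.π.app l).stalkMap x (y q) = z q := fun q => by rw [stalkMap_tr, hb]
  obtain ⟨m, ψ, hm⟩ : ∃ (m : I) (ψ : m ⟶ l), tr D c ψ x (∑ q, tr D c a x (f q) * y q) = 0 := by
    refine stalkMap_eq_zero D c hc x _ ?_
    rw [map_sum]
    refine Eq.trans (Finset.sum_congr rfl fun q _ => ?_) hfz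
    rw [map_mul, stalkMap_tr, hy]
    rfl
  let T := (D.obj m).presheaf.stalk (c.π.app m x)
  let h : R ⟶ T := tr D c a x ≫ tr D c ψ x
  letI : Algebra R T := h.hom.toAlgebra
  have hflat : h.hom.Flat := by
    have : (tr D c (ψ ≫ a) x) = h := by
      ext r
      show tr D c (ψ ≫ a) x r = tr D c ψ x (tr D c a x r)
      simp only [tr, ConcreteCategory.comp_apply]
      rw [Scheme.Hom.stalkMap_congr_hom (D.map (ψ ≫ a)) (D.map ψ ≫ D.map a) (D.map_comp ψ a),
        Scheme.Hom.stalkMap_comp]
      simp only [ConcreteCategory.comp_apply, TopCat.Presheaf.stalkCongr_hom]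
      erw [ConcreteCategory.comp_apply, ← Scheme.Hom.stalkSpecializes_stalkMap_apply (D.map a)
        ((D.map ψ) (c.π.app m x)) (c.π.app l x)]
      congr 2
      simp only [TopCat.Presheaf.stalkSpecializes_comp_apply]
      rfl
    rw [← this]
    exact flat_tr D c _ x (hf m _)
  haveI : Module.Flat R T := hflat
  have hrel : ∑ q, f q • tr D c ψ x (y q) = 0 := by
    refine Eq.trans (Finset.sum_congr rfl fun q _ => ?_) ((map_sum (tr D c ψ x).hom _ _).symm.trans hm)
    exact (map_mul (tr D c ψ x).hom _ _).symm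
  obtain ⟨t, A, w, hw, hA⟩ := Module.Flat.isTrivialRelation_of_sum_smul_eq_zero hrel
  refine ⟨t, A, fun j => (c.π.app m).stalkMap x (w j), fun q => ?_, hA⟩
  rw [← hy q, ← stalkMap_tr D c ψ x, show tr D c ψ x (y q) = _ from hw q, map_sum]
  refine Finset.sum_congr rfl fun j _ => ?_
  rw [Algebra.smul_def, Algebra.smul_def]
  refine (map_mul ((c.π.app m).stalkMap x).hom _ _).trans (congrArg (· * _) ?_)
  exact (stalkMap_tr D c ψ x _).trans (stalkMap_tr D c a x _)

end Groth.Agent.Lead.Lim
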