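import Groth.Agent.Lead.Lim.Rebase
import Groth.Agent.Lead.Lim.ClosedFinite

/-!
Descent of immersions.
-/

set_option autoImplicit false
set_option backward.isDefEq.respectTransparency false
set_option backward.defeqAttrib.useBackward true

open CategoryTheory Limits AlgebraicGeometry TopologicalSpace Topology

universe u

namespace Groth.Agent.Lead.Lim

variable {I : Type u} [SmallCategory I] [IsCofiltered I] (D : I ⥤ Scheme.{u}) (c : Cone D) (hc : IsLimit c)
  [∀ (i j : I) (f : i ⟶ j), IsAffineHom (D.map f)]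

include hc in
theorem exists_isImmersion (i₀ : I) [CompactSpace (D.obj i₀)] [QuasiSeparatedSpace (D.obj i₀)] {X₀ Y₀ : Scheme.{u}}
    (f₀ : X₀ ⟶ Y₀) (g₀ : Y₀ ⟶ D.obj i₀) [LocallyOfFinitePresentation g₀] [QuasiCompact g₀] [QuasiSeparated g₀]
    [LocallyOfFinitePresentation (f₀ ≫ g₀)] [QuasiCompact (f₀ ≫ g₀)] [QuasiSeparated (f₀ ≫ g₀)]
    {X Y : Scheme.{u}} {f : X ⟶ Y} {g : Y ⟶ c.pt} {qY : Y ⟶ Y₀} {qX : X ⟶ X₀}
    (hY : IsPullback qY g g₀ (c.π.app i₀)) (hX : IsPullback qX f f₀ qY) [IsImmersion f] :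
    ∃ (i : I) (φ : i ⟶ i₀), IsImmersion (pullback.snd f₀ (pullback.fst g₀ (D.map φ))) := by
  haveI : ∀ {i j : I} (f : i ⟶ j), IsAffineHom (D.map f) := fun f => ‹∀ (i j : I) (f : i ⟶ j), IsAffineHom (D.map f)› _ _ f
  obtain ⟨_, _, _, _, _, _, _⟩ := source_props f₀ g₀
  haveI : IsAffineHom (c.π.app i₀) := isAffineHom_π_app _ _ hc i₀
  haveI : IsAffineHom qY := MorphismProperty.of_isPullback (P := @IsAffineHom) hY.flip inferInstance
  haveI : IsAffineHom qX := MorphismProperty.of_isPullback (P := @IsAffineHom) hX.flip inferInstance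
  haveI : CompactSpace X := QuasiCompact.compactSpace_of_compactSpace qX
  obtain ⟨U, hUle, hUc, hUf⟩ := exists_qc_open f f.coborderRange (eq_top_iff.2 fun x _ => subset_coborder ⟨x, rfl⟩)
  obtain ⟨l, φ, Xl, Yl, fl, gl, pY, pX, qY', qX', V, h1, h2, h3, h4, hVc, hVU, hflV, hXc, hYc, hYqs⟩ :=
    exists_factor_open D c hc i₀ f₀ g₀ hY hX U hUc (eq_top_iff.2 fun x _ => hUf ⟨x, rfl⟩)
  let h₀ : Xl ⟶ V := IsOpenImmersion.lift V.ι fl (by
    rw [Scheme.Opens.range_ι]
    rintro _ ⟨x, rfl⟩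
    exact hflV.ge (Set.mem_univ x))
  have hh₀ : h₀ ≫ V.ι = fl := IsOpenImmersion.lift_fac _ _ _
  let W := qY' ⁻¹ᵁ V
  let fW : X ⟶ W := IsOpenImmersion.lift W.ι f (by rw [Scheme.Opens.range_ι]; rw [show W = U from hVU]; exact hUf)
  have hfW : fW ≫ W.ι = f := IsOpenImmersion.lift_fac _ _ _
  have hWle : W ≤ f.coborderRange := (le_of_eq hVU).trans hUle
  haveI : IsClosedImmersion fW := by
    haveI : IsPreimmersion (fW ≫ W.ι) := by rw [hfW]; infer_instance
    haveI := IsPreimmersion.of_comp fW W.ι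
    refine IsClosedImmersion.of_isPreimmersion _ ?_
    have e : Set.range fW = (Y.homOfLE hWle) ⁻¹' (Set.range f.liftCoborder) := by
      ext z
      constructor
      · rintro ⟨x, rfl⟩
        refine ⟨x, f.coborderRange.ι.isOpenEmbedding.injective ?_⟩
        rw [← Scheme.Hom.comp_apply, ← Scheme.Hom.comp_apply, Scheme.Hom.liftCoborder_ι, Scheme.homOfLE_ι,
          ← Scheme.Hom.comp_apply, hfW]
      · rintro ⟨x, hx⟩
        refine ⟨x, W.ι.isOpenEmbedding.injective ?_⟩
        have := congr(f.coborderRange.ι $hx)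
        rw [← Scheme.Hom.comp_apply, ← Scheme.Hom.comp_apply, Scheme.Hom.liftCoborder_ι, Scheme.homOfLE_ι] at this
        rw [← Scheme.Hom.comp_apply, hfW, this]
    rw [e]
    exact (f.liftCoborder.isClosedEmbedding.isClosed_range).preimage (Y.homOfLE hWle).continuous
  haveI : IsAffineHom pY := MorphismProperty.of_isPullback (P := @IsAffineHom) h1.flip inferInstance
  haveI : IsAffineHom pX := MorphismProperty.of_isPullback (P := @IsAffineHom) h2.flip inferInstance
  haveI : QuasiSeparatedSpace Xl := quasiSeparatedSpace_of_quasiSeparated pX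
  haveI : CompactSpace (V : Scheme.{u}) := isCompact_iff_compactSpace.mp hVc
  haveI : QuasiSeparatedSpace (V : Scheme.{u}) :=
    (isQuasiSeparated_iff_quasiSeparatedSpace _ V.2).mp (.of_quasiSeparatedSpace _)
  haveI : LocallyOfFinitePresentation gl := MorphismProperty.of_isPullback h1 inferInstance
  haveI : LocallyOfFinitePresentation fl := MorphismProperty.of_isPullback h2 inferInstance
  haveI : CompactSpace (D.obj l) := QuasiCompact.compactSpace_of_compactSpace (D.map φ)
  haveI : LocallyOfFiniteType (h₀ ≫ V.ι) := by rw [hh₀]; infer_instance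
  haveI : LocallyOfFiniteType h₀ := locallyOfFiniteType_of_comp h₀ V.ι
  have hY' := (isPullback_morphismRestrict qY' V).paste_vert h3
  have hX' : IsPullback qX' fW h₀ (qY' ∣_ V) := by
    refine IsPullback.of_bot ?_ ?_ (isPullback_morphismRestrict qY' V)
    · rw [hfW, hh₀]; exact h4
    · rw [← cancel_mono V.ι, Category.assoc, Category.assoc, hh₀, morphismRestrict_ι, reassoc_of% hfW, h4.w]
  obtain ⟨k, χ, hk⟩ := exists_descend_over D c hc @IsClosedImmersion @LocallyOfFiniteType l h₀ (V.ι ≫ gl) inferInstance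
    (fun E cE hE _ a₀ _ _ h₀ _ _ _ _ hh => exists_isClosedImmersion_descend E cE hE a₀ h₀ hh) hY' hX'
    (show IsClosedImmersion fW from inferInstance)
  let pYk := pullback.fst g₀ (D.map (χ ≫ φ))
  refine ⟨k, χ ≫ φ, ?_⟩
  let pYm : pullback g₀ (D.map (χ ≫ φ)) ⟶ Yl :=
    h1.lift pYk (pullback.snd _ _ ≫ D.map χ) (by rw [pullback.condition, Category.assoc, ← D.map_comp])
  have hYm : IsPullback pYm (pullback.snd g₀ (D.map (χ ≫ φ))) gl (D.map χ) := by
    refine IsPullback.of_right ?_ (h1.lift_snd _ _ _) h1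
    rw [h1.lift_fst, ← D.map_comp]
    exact IsPullback.of_hasPullback _ _
  obtain ⟨pXm, hXm, -⟩ := exists_lift_square_over (IsPullback.of_hasPullback f₀ pYk) h2 (q := pYm) (h1.lift_fst _ _ _)
  let fi := pullback.snd f₀ pYk
  let hm : pullback f₀ pYk ⟶ (pYm ⁻¹ᵁ V : (pullback g₀ (D.map (χ ≫ φ))).Opens) :=
    IsOpenImmersion.lift (pYm ⁻¹ᵁ V).ι fi (by
      rw [Scheme.Opens.range_ι]
      rintro _ ⟨x, rfl⟩
      show (fi ≫ pYm) x ∈ V
      rw [← hXm.w, Scheme.Hom.comp_apply]
      exact hflV.ge (Set.mem_univ (pXm x)))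
  have hhm : hm ≫ (pYm ⁻¹ᵁ V).ι = fi := IsOpenImmersion.lift_fac _ _ _
  let hB := (isPullback_morphismRestrict pYm V).paste_vert hYm
  haveI : IsClosedImmersion hm := by
    refine of_factor @IsClosedImmersion h₀ (pullback.fst (V.ι ≫ gl) (D.map χ))
      (by rw [← pullbackSymmetry_hom_comp_snd (pullback.fst (V.ι ≫ gl) (D.map χ)) h₀]; infer_instance) hB.isoPullback.hom (q := pXm) ?_
    rw [IsPullback.isoPullback_hom_fst]
    refine IsPullback.of_bot ?_ ?_ (isPullback_morphismRestrict pYm V)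
    · rw [hhm, hh₀]; exact hXm
    · rw [← cancel_mono V.ι, Category.assoc, Category.assoc, hh₀, morphismRestrict_ι, reassoc_of% hhm, hXm.w]
  show IsImmersion fi
  rw [← hhm]
  infer_instance

end Groth.Agent.Lead.Lim
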