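import Groth.Agent.Lead.Lim.Closed
import Mathlib.AlgebraicGeometry.Morphisms.Finite
import Mathlib.AlgebraicGeometry.Morphisms.Integral

/-!
Integrality at the limit gives finiteness at a stage.
-/

set_option autoImplicit false

open CategoryTheory Limits AlgebraicGeometry TopologicalSpace

universe u

namespace Groth.Agent.Lead.Lim

theorem isIntegral_comp_of_gen {A Bk Bl : Type u} [CommRing A] [CommRing Bk] [CommRing Bl]
    (α : A →+* Bk) (β : Bk →+* Bl) (hβ : β.IsIntegral) (s : Set Bk)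
    (hgen : Subring.closure (Set.range α ∪ s) = ⊤) (hs : ∀ y ∈ s, (β.comp α).IsIntegralElem (β y)) :
    (β.comp α).IsIntegral := by
  intro z
  letI : Algebra A Bl := (β.comp α).toAlgebra
  let C := integralClosure A Bl
  have hC : ∀ y, β y ∈ C := by
    intro y
    refine (Subring.closure_le (t := C.toSubring.comap β)).2 ?_ (hgen.ge (Subring.mem_top y))
    rintro _ (⟨a, rfl⟩ | hy)
    · exact C.algebraMap_mem a
    · exact hs _ hy
  let β' : Bk →+* C := β.codRestrict C hC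
  haveI : Algebra.IsIntegral A C := inferInstance
  have hz : IsIntegral C z := by
    obtain ⟨p, hp, hpz⟩ := hβ z
    refine ⟨p.map β', hp.map β', ?_⟩
    rw [Polynomial.eval₂_map]
    exact hpz
  exact isIntegral_trans (R := A) (A := C) z hz

theorem isIntegralHom_of_cover {X Y : Scheme.{u}} (g : Y ⟶ X) {J : Type u} (V : J → X.Opens)
    (hV : IsOpenCover V) (hA : ∀ b, IsAffineOpen (V b)) (hP : ∀ b, IsAffineOpen (g ⁻¹ᵁ V b))
    (hs : ∀ b, (g.app (V b)).hom.IsIntegral) : IsIntegralHom g := by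
  refine IsZariskiLocalAtTarget.of_iSup_eq_top V hV fun b => ?_
  have : IsAffine (V b) := hA b
  have : IsAffine (g ⁻¹ᵁ V b) := hP b
  refine (HasAffineProperty.iff_of_isAffine (P := @IsIntegralHom)).2 ⟨inferInstance, ?_⟩
  have e' : (g ∣_ V b).app ⊤ ≫ (g ⁻¹ᵁ V b).topIso.hom = (V b).topIso.hom ≫ g.app (V b) := by
    simp [Scheme.Hom.app_eq_appLE]
    erw [Scheme.Hom.map_appLE, Scheme.Hom.appLE_map]
  rw [show (g ∣_ V b).app ⊤ = ((V b).topIso.hom ≫ g.app (V b)) ≫ (g ⁻¹ᵁ V b).topIso.inv from (Iso.eq_comp_inv _).2 e']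
  show RingHom.IsIntegral ((g ⁻¹ᵁ V b).topIso.inv.hom.comp ((g.app (V b)).hom.comp (V b).topIso.hom.hom))
  exact RingHom.isIntegral_respectsIso.1 _ (g ⁻¹ᵁ V b).topIso.symm.commRingCatIsoToRingEquiv
    (RingHom.isIntegral_respectsIso.2 _ (V b).topIso.commRingCatIsoToRingEquiv (hs b))

variable {I : Type u} [Category.{u} I] [IsCofiltered I] (D : I ⥤ Scheme.{u}) (c : Cone D) (hc : IsLimit c)
  [∀ {i j : I} (f : i ⟶ j), IsAffineHom (D.map f)]

include hc in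
theorem exists_isIntegralHom [∀ i, CompactSpace (D.obj i)] [∀ i, QuasiSeparatedSpace (D.obj i)]
    (hD : ∀ {i j : I} (f : i ⟶ j), IsFinite (D.map f))
    {S : Scheme.{u}} [CompactSpace S] [QuasiSeparatedSpace S] (i₀ : I) (t₀ : D.obj i₀ ⟶ S)
    [LocallyOfFiniteType t₀] [IsIntegralHom (c.π.app i₀ ≫ t₀)] :
    ∃ (i : I) (φ : i ⟶ i₀), IsIntegralHom (D.map φ ≫ t₀) := by
  classical
  haveI : ∀ i, IsAffineHom (c.π.app i) := fun i => isAffineHom_π_app _ _ hc i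
  obtain ⟨T, hTfin, hT⟩ : ∃ T : Set S.affineOpens, T.Finite ∧ ∀ z : S, ∃ W ∈ T, z ∈ (W : S.affineOpens).1 := by
    obtain ⟨T, hT⟩ := isCompact_univ.elim_finite_subcover (fun W : S.affineOpens => ((W.1 : S.Opens) : Set S))
      (fun W => W.1.2) (fun z _ => by
        obtain ⟨_, ⟨W, hW, rfl⟩, hzW, -⟩ := S.isBasis_affineOpens.exists_subset_of_mem_open (Set.mem_univ z) isOpen_univ
        exact Set.mem_iUnion.2 ⟨⟨W, hW⟩, hzW⟩)
    exact ⟨T, T.finite_toSet, fun z => by simpa using Set.mem_iUnion₂.1 (hT (Set.mem_univ z))⟩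
  haveI : Finite T := hTfin
  haveI : QuasiCompact t₀ := inferInstance
  have step : ∀ W : T, ∃ (j : I) (φ : j ⟶ i₀), IsAffineOpen (D.map φ ⁻¹ᵁ (t₀ ⁻¹ᵁ W.1.1)) := by
    intro W
    set Z := t₀ ⁻¹ᵁ W.1.1
    have hZc : IsCompact (Z : Set (D.obj i₀)) := QuasiCompact.isCompact_preimage _ W.1.1.2 W.1.2.isCompact
    have (j : Over i₀) : CompactSpace ((opensDiagram D i₀ Z).obj j) :=
      isCompact_iff_compactSpace.mp (QuasiCompact.isCompact_preimage _ Z.2 hZc)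
    have (j : Over i₀) : QuasiSeparatedSpace ((opensDiagram D i₀ Z).obj j) :=
      (isQuasiSeparated_iff_quasiSeparatedSpace _ (D.map _ ⁻¹ᵁ _).2).mp (.of_quasiSeparatedSpace _)
    have : IsAffine (opensCone D c i₀ Z).pt := W.1.2.preimage (c.π.app i₀ ≫ t₀)
    obtain ⟨j, hj⟩ := Scheme.exists_isAffine_of_isLimit _ _ (isLimitOpensCone D c hc i₀ Z)
    exact ⟨j.left, j.hom, hj⟩
  choose J φ hφ using step
  obtain ⟨k, fk, gk, hk⟩ := IsCofiltered.wideCospan φ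
  let f := D.map fk ≫ t₀
  have hA : ∀ W : T, IsAffineOpen (f ⁻¹ᵁ W.1.1) := fun W => by
    have := (hφ W).preimage (D.map (gk W))
    rwa [← Scheme.Hom.comp_preimage, ← D.map_comp, hk] at this
  haveI := hD fk
  choose s hs using fun W : T => exists_finite_gen_appLE f (le_refl (f ⁻¹ᵁ W.1.1)) W.1.2 (hA W)
  have step2 : ∀ (W : T) (y : Γ(D.obj k, f ⁻¹ᵁ W.1.1)), ∃ (l : I) (ψ : l ⟶ k) (p : Polynomial Γ(S, W.1.1)),
      p.Monic ∧ (D.map ψ).app _ (p.eval₂ (f.app W.1.1).hom y) = 0 := by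
    intro W y
    have hci : IsIntegralHom (c.π.app k ≫ f) := by
      show IsIntegralHom (c.π.app k ≫ D.map fk ≫ t₀)
      rw [c.w_assoc]; infer_instance
    obtain ⟨p, hp, hp0⟩ := (c.π.app k ≫ f).isIntegral_app W.1.1 W.1.2 ((c.π.app k).app _ y)
    rw [Scheme.Hom.comp_app] at hp0
    have h0 : (c.π.app k).app _ (p.eval₂ (f.app W.1.1).hom y) = 0 :=
      (Polynomial.hom_eval₂ p _ _ y).trans hp0
    obtain ⟨l, ψ, hψ⟩ := exists_app_map_eq_zero_of_isLimit D c hc (hA W).isCompact _ h0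
    exact ⟨l, ψ, p, hp, hψ⟩
  choose L ψ p hp hψ using step2
  let Idx := Σ W : T, (s W : Set Γ(D.obj k, f ⁻¹ᵁ W.1.1))
  obtain ⟨l, fl, gl, hl⟩ := IsCofiltered.wideCospan (I := Idx) fun q => ψ q.1 q.2.1
  refine ⟨l, fl ≫ fk, ?_⟩
  rw [D.map_comp, Category.assoc]
  haveI := hD fl
  refine isIntegralHom_of_cover _ (fun W : T => W.1.1) (eq_top_iff.2 fun z _ => by
      obtain ⟨W, hW, hz⟩ := hT z
      exact Opens.mem_iSup.2 ⟨⟨W, hW⟩, hz⟩) (fun W => W.1.2)
    (fun W => (hA W).preimage (D.map fl)) fun W => ?_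
  show ((((D.map fl).app (f ⁻¹ᵁ W.1.1)).hom.comp (f.app W.1.1).hom)).IsIntegral
  refine isIntegral_comp_of_gen _ _ ((D.map fl).isIntegral_app _ (hA W)) (s W : Set _) ?_ ?_
  · simpa [Scheme.Hom.app_eq_appLE] using hs W
  · intro y hy
    refine ⟨p W y, hp W y, ?_⟩
    rw [← Polynomial.hom_eval₂]
    have key : ∀ (m : l ⟶ L W y) (he : m ≫ ψ W y = fl),
        (D.map fl).app _ (Polynomial.eval₂ (f.app W.1.1).hom y (p W y)) = 0 := by
      rintro m he
      subst he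
      have h2 : (D.map (m ≫ ψ W y)).app (f ⁻¹ᵁ W.1.1) = (D.map (ψ W y)).app (f ⁻¹ᵁ W.1.1) ≫
          (D.map m).appLE _ (D.map (m ≫ ψ W y) ⁻¹ᵁ (f ⁻¹ᵁ W.1.1)) (by rw [D.map_comp]; rfl) := by
        rw [Scheme.Hom.app_eq_appLE, Scheme.Hom.app_eq_appLE, Scheme.Hom.appLE_comp_appLE]
        simp only [D.map_comp]
      rw [h2, ConcreteCategory.comp_apply, hψ W y, map_zero]
    exact key _ (hl ⟨W, y, hy⟩)

end Groth.Agent.Lead.Lim
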