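import Groth.Agent.Lead.Lim.ClosedFinite
import Mathlib.AlgebraicGeometry.Morphisms.IsIso
import Mathlib.RingTheory.RingHom.FinitePresentation

/-!
Descent of isomorphisms for sources of finite presentation.
-/

set_option autoImplicit false
set_option backward.isDefEq.respectTransparency false
set_option backward.defeqAttrib.useBackward true

open CategoryTheory Limits AlgebraicGeometry TopologicalSpace

universe u

namespace Groth.Agent.Lead.Lim

variable {I : Type u} [Category.{u} I] [IsCofiltered I] (D : I ⥤ Scheme.{u}) (c : Cone D) (hc : IsLimit c)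
  [∀ {i j : I} (f : i ⟶ j), IsAffineHom (D.map f)]

include hc in
theorem exists_isIso_closed [∀ i, IsAffine (D.obj i)] {i₀ : I} {X₀ : Scheme.{u}} (f₀ : X₀ ⟶ D.obj i₀)
    [IsClosedImmersion f₀] [LocallyOfFinitePresentation f₀] (h : IsIso (pullback.fst (c.π.app i₀) f₀)) :
    ∃ (j : I) (φ : j ⟶ i₀), IsIso (pullback.fst (D.map φ) f₀) := by
  classical
  haveI : IsAffine X₀ := isAffine_of_isAffineHom f₀
  haveI := isAffineHom_π_app _ _ hc i₀
  haveI : IsAffine c.pt := isAffine_of_isAffineHom (c.π.app i₀)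
  have hsurj : Function.Surjective f₀.appTop := f₀.app_surjective ⊤ (isAffineOpen_top _)
  obtain ⟨s, hs⟩ : (RingHom.ker f₀.appTop.hom).FG := by
    have hfp := f₀.finitePresentation_appTop
    algebraize [f₀.appTop.hom]
    have := Algebra.FinitePresentation.ker_fG_of_surjective (Algebra.ofId Γ(D.obj i₀, ⊤) Γ(X₀, ⊤)) hsurj
    exact this
  have hz : ∀ x : (s : Set Γ(D.obj i₀, ⊤)), (c.π.app i₀).appTop x.1 = 0 := by
    intro x
    have hx : f₀.appTop x.1 = 0 := by
      have : x.1 ∈ RingHom.ker f₀.appTop.hom := hs ▸ Ideal.subset_span x.2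
      exact this
    refine (ConcreteCategory.bijective_of_isIso (pullback.fst (c.π.app i₀) f₀).appTop).1 ?_
    rw [appTop_comm _ _ _ _ pullback.condition, hx, map_zero, map_zero]
  have hstep : ∀ x : (s : Set Γ(D.obj i₀, ⊤)), ∃ (j : I) (φ : j ⟶ i₀), (D.map φ).appTop x.1 = 0 := fun x =>
    exists_appTop_map_eq_zero_of_isAffine_of_isLimit D c hc i₀ x.1 (hz x)
  choose J φ hφ using hstep
  obtain ⟨j, φ', g, hg⟩ := IsCofiltered.wideCospan φ
  refine ⟨j, φ', ?_⟩
  have hle : RingHom.ker f₀.appTop.hom ≤ RingHom.ker (D.map φ').appTop.hom := by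
    rw [← hs, Ideal.span_le]
    intro x hx
    show (D.map φ').appTop x = 0
    rw [← hg ⟨x, hx⟩, D.map_comp, Scheme.Hom.comp_appTop, ConcreteCategory.comp_apply, hφ ⟨x, hx⟩, map_zero]
  haveI : IsClosedImmersion (pullback.fst (D.map φ') f₀) := MorphismProperty.pullback_fst _ _ inferInstance
  refine (HasAffineProperty.iff_of_isAffine (P := MorphismProperty.isomorphisms Scheme.{u})).2 ⟨inferInstance, ?_⟩
  rw [ConcreteCategory.isIso_iff_bijective]
  refine ⟨?_, (pullback.fst (D.map φ') f₀).app_surjective ⊤ (isAffineOpen_top _)⟩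
  have hp := isPushout_appTop_of_isPullback (IsPullback.of_hasPullback (D.map φ') f₀)
  let r := CommRingCat.ofHom (RingHom.liftOfSurjective f₀.appTop.hom hsurj ⟨(D.map φ').appTop.hom, hle⟩)
  have hr : (D.map φ').appTop ≫ 𝟙 _ = f₀.appTop ≫ r := by
    rw [Category.comp_id]
    ext x
    exact (RingHom.liftOfRightInverse_comp_apply _ _ (Function.rightInverse_surjInv hsurj) ⟨(D.map φ').appTop.hom, hle⟩ x).symm
  refine Function.LeftInverse.injective (g := hp.desc _ _ hr) fun x => ?_
  rw [← ConcreteCategory.comp_apply, hp.inl_desc]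
  rfl

include hc in
theorem exists_isIso_affine [∀ i, IsAffine (D.obj i)] {i₀ : I} {X₀ : Scheme.{u}} [IsAffine X₀] (f₀ : X₀ ⟶ D.obj i₀)
    [LocallyOfFinitePresentation f₀] (h : IsIso (pullback.fst (c.π.app i₀) f₀)) :
    ∃ (j : I) (φ : j ⟶ i₀), IsIso (pullback.fst (D.map φ) f₀) := by
  obtain ⟨j, φ, hcl⟩ := exists_isClosedImmersion_affine D c hc f₀ inferInstance
  let f₁ := pullback.fst (D.map φ) f₀
  haveI : LocallyOfFinitePresentation f₁ := MorphismProperty.pullback_fst _ _ inferInstance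
  have h₁ : IsIso (pullback.fst (c.π.app j) f₁) := by
    refine of_factor (MorphismProperty.isomorphisms Scheme.{u}) f₀ (c.π.app i₀) h (𝟙 _)
      (q := pullback.snd _ _ ≫ pullback.snd (D.map φ) f₀) ?_
    have := (IsPullback.of_hasPullback (c.π.app j) f₁).flip.paste_horiz (IsPullback.of_hasPullback (D.map φ) f₀).flip
    rw [c.w] at this
    rwa [Category.id_comp]
  obtain ⟨k, ψ, hk⟩ := exists_isIso_closed D c hc f₁ h₁
  refine ⟨k, ψ ≫ φ, ?_⟩
  have hsq := ((IsPullback.of_hasPullback (D.map ψ) f₁).flip.paste_horiz (IsPullback.of_hasPullback (D.map φ) f₀).flip)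
  rw [← D.map_comp] at hsq
  rw [← hsq.flip.isoPullback_inv_fst]
  infer_instance

include hc in
theorem exists_isIso_lfp (i₀ : I) [CompactSpace (D.obj i₀)] {X₀ : Scheme.{u}} (f₀ : X₀ ⟶ D.obj i₀)
    [LocallyOfFinitePresentation f₀] [QuasiCompact f₀] [QuasiSeparated f₀]
    (h : IsIso (pullback.fst (c.π.app i₀) f₀)) :
    ∃ (j : I) (φ : j ⟶ i₀), IsIso (pullback.fst (D.map φ) f₀) :=
  exists_descend_local D c hc (MorphismProperty.isomorphisms Scheme.{u})
    (fun _ _ g hg => by haveI : IsIso g := hg; infer_instance) @LocallyOfFinitePresentation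
    (fun E cE hE _ _ _ _ _ h₀ _ hQ hh => by
      haveI : LocallyOfFinitePresentation h₀ := hQ
      exact exists_isIso_affine E cE hE h₀ hh) i₀ f₀ inferInstance h

end Groth.Agent.Lead.Lim
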