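import Groth.Agent.Lead.Lim.EGA
import Groth.Prelude.Def_Mor2
import Mathlib.AlgebraicGeometry.QuasiAffine

/-!
Quasi-affineness is local on the target and descends along limits.
-/

set_option autoImplicit false
set_option backward.isDefEq.respectTransparency false
set_option backward.defeqAttrib.useBackward true

open CategoryTheory Limits AlgebraicGeometry TopologicalSpace

universe u

namespace Groth.Agent.Lead.Lim

theorem isQuasiAffine_of_basic {Z : Scheme.{u}} [CompactSpace Z] [QuasiSeparatedSpace Z]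
    (H : ∀ x : Z, ∃ t : Γ(Z, ⊤), x ∈ Z.basicOpen t ∧ Scheme.IsQuasiAffine (Z.basicOpen t : Scheme.{u})) :
    Scheme.IsQuasiAffine Z := by
  refine .of_forall_exists_mem_basicOpen _ fun x => ?_
  obtain ⟨t, hxt, hU⟩ := H x
  obtain ⟨_, ⟨_, ⟨r, hr, rfl⟩, rfl⟩, hxr, -⟩ := (Scheme.IsQuasiAffine.isBasis_basicOpen
    (Z.basicOpen t : Scheme.{u})).exists_subset_of_mem_open (Set.mem_univ (⟨x, hxt⟩ : (Z.basicOpen t : Scheme.{u}))) isOpen_univ
  let r' : Γ(Z, Z.basicOpen t) := (Z.basicOpen t).topIso.hom r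
  have hr' : (Z.basicOpen t).ι ''ᵁ ((Z.basicOpen t : Scheme.{u}).basicOpen r) = Z.basicOpen r' := by
    rw [Scheme.image_basicOpen]
    simp [r']
    exact (Z.basicOpen_res_eq _ _).symm
  haveI := isLocalization_basicOpen_of_qcqs (X := Z) (U := ⊤) isCompact_univ isQuasiSeparated_univ t
  obtain ⟨⟨a, m⟩, hm⟩ := IsLocalization.surj (Submonoid.powers t) r'
  refine ⟨a * t, ?_⟩
  have e : Z.basicOpen (a * t) = Z.basicOpen r' := by
    have h1 := congrArg Z.basicOpen hm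
    rw [Scheme.basicOpen_mul, Z.basicOpen_of_isUnit (IsLocalization.map_units Γ(Z, Z.basicOpen t) m),
      inf_eq_left.2 (Z.basicOpen_le r')] at h1
    rw [Scheme.basicOpen_mul, inf_comm, h1]
    exact (Z.basicOpen_res a _).symm
  rw [e, ← hr']
  exact ⟨hr.image_of_isOpenImmersion _, ⟨⟨x, hxt⟩, hxr, rfl⟩⟩

/-- quasi-affineness can be checked on an affine cover of the target -/
theorem isQuasiAffine_of_cover {X Y : Scheme.{u}} (f : X ⟶ Y) [QuasiCompact f] [QuasiSeparated f] {J : Type*}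
    (W : J → Y.Opens) (hW : IsOpenCover W) (hqa : ∀ b, Scheme.IsQuasiAffine (f ⁻¹ᵁ W b : Scheme.{u})) :
    Mor2.IsQuasiAffine f := by
  refine ⟨inferInstance, fun V hV => ?_⟩
  haveI : IsAffine V := hV
  haveI : CompactSpace (f ⁻¹ᵁ V : Scheme.{u}) := QuasiCompact.compactSpace_of_compactSpace (f ∣_ V)
  haveI : QuasiSeparatedSpace (f ⁻¹ᵁ V : Scheme.{u}) := quasiSeparatedSpace_of_quasiSeparated (f ∣_ V)
  refine isQuasiAffine_of_basic fun x => ?_
  obtain ⟨b, hb⟩ := Opens.mem_iSup.1 (hW.ge (Set.mem_univ (f x.1)))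
  obtain ⟨_, ⟨_, ⟨s, rfl⟩, rfl⟩, hxs, hsW⟩ := (isBasis_basicOpen (V : Scheme.{u})).exists_subset_of_mem_open
    (show (f ∣_ V) x ∈ ((V.ι ⁻¹ᵁ W b : (V : Scheme.{u}).Opens) : Set V) by
      show V.ι ((f ∣_ V) x) ∈ W b
      rw [← Scheme.Hom.comp_apply, morphismRestrict_ι, Scheme.Hom.comp_apply]
      exact hb) (V.ι ⁻¹ᵁ W b).2
  refine ⟨(f ∣_ V).appTop s, ?_, ?_⟩
  · rw [← Scheme.preimage_basicOpen_top]; exact hxs
  · haveI := hqa b
    set U := (f ⁻¹ᵁ V : Scheme.{u}).basicOpen ((f ∣_ V).appTop s)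
    haveI : CompactSpace (U : Scheme.{u}) := isCompact_iff_compactSpace.mp (isCompact_basicOpen _ isCompact_univ _)
    let j : (U : Scheme.{u}) ⟶ (f ⁻¹ᵁ W b : Scheme.{u}) := IsOpenImmersion.lift (f ⁻¹ᵁ W b).ι (U.ι ≫ (f ⁻¹ᵁ V).ι) (by
      rw [Scheme.Opens.range_ι]
      rintro _ ⟨z, rfl⟩
      show f ((f ⁻¹ᵁ V).ι z.1) ∈ W b
      rw [← Scheme.Hom.comp_apply, ← morphismRestrict_ι, Scheme.Hom.comp_apply]
      refine hsW ?_
      have hz := z.2
      rw [← SetLike.mem_coe] at hz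
      simp only [U, ← Scheme.preimage_basicOpen_top] at hz
      exact hz)
    haveI : IsOpenImmersion (j ≫ (f ⁻¹ᵁ W b).ι) := by rw [IsOpenImmersion.lift_fac]; infer_instance
    haveI : IsOpenImmersion j := IsOpenImmersion.of_comp j (f ⁻¹ᵁ W b).ι
    exact .of_isImmersion j

theorem isQuasiAffine_of_iso {X Y : Scheme.{u}} (e : X ≅ Y) (h : Scheme.IsQuasiAffine Y) : Scheme.IsQuasiAffine X :=
  haveI := h
  haveI : CompactSpace X := QuasiCompact.compactSpace_of_compactSpace e.hom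
  .of_isImmersion e.hom

variable {I : Type u} [SmallCategory I] [IsCofiltered I] (D : I ⥤ Scheme.{u}) (c : Cone D) (hc : IsLimit c)
  [∀ (i j : I) (f : i ⟶ j), IsAffineHom (D.map f)]

include hc in
theorem exists_isQuasiAffine (i₀ : I) [CompactSpace (D.obj i₀)] [QuasiSeparatedSpace (D.obj i₀)] {X₀ Y₀ : Scheme.{u}}
    (f₀ : X₀ ⟶ Y₀) (g₀ : Y₀ ⟶ D.obj i₀) [LocallyOfFinitePresentation g₀] [QuasiCompact g₀] [QuasiSeparated g₀]
    [LocallyOfFinitePresentation (f₀ ≫ g₀)] [QuasiCompact (f₀ ≫ g₀)] [QuasiSeparated (f₀ ≫ g₀)]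
    {X Y : Scheme.{u}} {f : X ⟶ Y} {g : Y ⟶ c.pt} {qY : Y ⟶ Y₀} {qX : X ⟶ X₀}
    (hY : IsPullback qY g g₀ (c.π.app i₀)) (hX : IsPullback qX f f₀ qY) (hf : Mor2.IsQuasiAffine f) :
    ∃ (i : I) (φ : i ⟶ i₀), Mor2.IsQuasiAffine (pullback.snd f₀ (pullback.fst g₀ (D.map φ))) := by
  classical
  haveI : ∀ {i j : I} (f : i ⟶ j), IsAffineHom (D.map f) := fun f => ‹∀ (i j : I) (f : i ⟶ j), IsAffineHom (D.map f)› _ _ f
  obtain ⟨_, _, _, _, _, _, _⟩ := source_props f₀ g₀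
  haveI : IsAffineHom (c.π.app i₀) := isAffineHom_π_app _ _ hc i₀
  haveI : IsAffineHom qY := MorphismProperty.of_isPullback (P := @IsAffineHom) hY.flip inferInstance
  obtain ⟨T, hT⟩ := isCompact_univ.elim_finite_subcover (fun W : Y₀.affineOpens => ((W.1 : Y₀.Opens) : Set Y₀))
    (fun W => W.1.2) (fun z _ => by
      obtain ⟨_, ⟨W, hW, rfl⟩, hzW, -⟩ := Y₀.isBasis_affineOpens.exists_subset_of_mem_open (Set.mem_univ z) isOpen_univ
      exact Set.mem_iUnion.2 ⟨⟨W, hW⟩, hzW⟩)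
  have step : ∀ W : Y₀.affineOpens, ∃ (j : I) (φ : j ⟶ i₀),
      Scheme.IsQuasiAffine (pullback (D.map φ) ((f₀ ⁻¹ᵁ W.1).ι ≫ f₀ ≫ g₀)) := by
    intro W
    set Z := f₀ ⁻¹ᵁ W.1
    haveI : CompactSpace (Z : Scheme.{u}) :=
      isCompact_iff_compactSpace.mp (QuasiCompact.isCompact_preimage _ W.1.2 W.2.isCompact)
    haveI : QuasiSeparatedSpace (Z : Scheme.{u}) :=
      (isQuasiSeparated_iff_quasiSeparatedSpace _ Z.2).mp (.of_quasiSeparatedSpace _)
    let t := Z.ι ≫ f₀ ≫ g₀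
    let E := Groth.Agent.Lim.Topo.bcDiagram D t
    let cE := Groth.Agent.Lim.Topo.bcCone D c t
    haveI : ∀ {a b : Over i₀} (w : a ⟶ b), IsAffineHom (E.map w) := fun w => Groth.Agent.Lim.Topo.isAffineHom_bcDiagram_map D t w
    haveI hA (a : Over i₀) : IsAffineHom (pullback.snd (D.map a.hom) t) :=
      MorphismProperty.pullback_snd (P := @IsAffineHom) _ _ (inferInstance : IsAffineHom (D.map a.hom))
    haveI (a : Over i₀) : QuasiCompact (pullback.snd (D.map a.hom) t) := @instQuasiCompactOfIsAffineHom _ _ _ (hA a)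
    haveI (a : Over i₀) : CompactSpace (E.obj a) := QuasiCompact.compactSpace_of_compactSpace (pullback.snd (D.map a.hom) t)
    haveI (a : Over i₀) : QuasiSeparatedSpace (E.obj a) := quasiSeparatedSpace_of_quasiSeparated (pullback.snd (D.map a.hom) t)
    haveI : Scheme.IsQuasiAffine cE.pt := by
      let hsq := (isPullback_morphismRestrict qX Z).paste_vert (hX.paste_vert hY)
      refine isQuasiAffine_of_iso (hsq.flip.isoPullback.symm ≪≫ X.isoOfEq ?_) (hf.2 (qY ⁻¹ᵁ W.1) (W.2.preimage qY))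
      show qX ⁻¹ᵁ (f₀ ⁻¹ᵁ W.1) = f ⁻¹ᵁ (qY ⁻¹ᵁ W.1)
      rw [← Scheme.Hom.comp_preimage, ← Scheme.Hom.comp_preimage, hX.w]
    obtain ⟨a, ha⟩ := Scheme.exists_isQuasiAffine_of_isLimit E cE (Groth.Agent.Lim.Topo.isLimitBcCone D c hc t)
    exact ⟨a.left, a.hom, ha⟩
  choose J φ hφ using step
  obtain ⟨k, fk, gk, hgk⟩ := IsCofiltered.wideCospan (I := T) fun W => φ W.1
  refine ⟨k, fk, ?_⟩
  let pY := pullback.fst g₀ (D.map fk)
  haveI : QuasiCompact (pullback.snd f₀ pY) := MorphismProperty.pullback_snd _ _ inferInstance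
  haveI : QuasiSeparated (pullback.snd f₀ pY) := MorphismProperty.pullback_snd _ _ inferInstance
  refine isQuasiAffine_of_cover _ (fun W : T => pY ⁻¹ᵁ W.1.1) (eq_top_iff.2 fun z _ => by
    obtain ⟨W, hW, hz⟩ := Set.mem_iUnion₂.1 (hT (Set.mem_univ (pY z)))
    exact Opens.mem_iSup.2 ⟨⟨W, hW⟩, hz⟩) fun W => ?_
  let t := (f₀ ⁻¹ᵁ W.1.1).ι ≫ f₀ ≫ g₀
  let r : pullback (D.map fk) t ⟶ pullback (D.map (φ W.1)) t :=
    pullback.lift (pullback.fst _ _ ≫ D.map (gk W)) (pullback.snd _ _)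
      (by rw [Category.assoc, ← D.map_comp, hgk, pullback.condition])
  haveI : IsAffineHom r := by
    have : IsPullback r (pullback.fst _ _) (pullback.fst (D.map (φ W.1)) t) (D.map (gk W)) := by
      refine IsPullback.of_right ?_ (pullback.lift_fst _ _ _) (IsPullback.of_hasPullback _ _).flip
      rw [pullback.lift_snd, ← D.map_comp, hgk]
      exact (IsPullback.of_hasPullback _ _).flip
    exact MorphismProperty.of_isPullback (P := @IsAffineHom) this.flip inferInstance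
  haveI := hφ W.1
  haveI : Scheme.IsQuasiAffine (pullback (D.map fk) t) := Scheme.IsQuasiAffine.of_isAffineHom r
  let hsq := (isPullback_morphismRestrict (pullback.fst f₀ pY) (f₀ ⁻¹ᵁ W.1.1)).paste_vert
    ((IsPullback.of_hasPullback f₀ pY).paste_vert (IsPullback.of_hasPullback g₀ (D.map fk)))
  refine isQuasiAffine_of_iso ((pullback f₀ pY).isoOfEq ?_ ≪≫ hsq.flip.isoPullback) inferInstance
  rw [← Scheme.Hom.comp_preimage, ← Scheme.Hom.comp_preimage, pullback.condition]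

end Groth.Agent.Lead.Lim
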