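import Groth.Agent.Lead.Lim.EGA
import Mathlib.AlgebraicGeometry.ZariskisMainTheorem

/-!
Descent of quasi-finite morphisms along limits.
-/

set_option autoImplicit false
set_option backward.isDefEq.respectTransparency false
set_option backward.defeqAttrib.useBackward true

open CategoryTheory Limits AlgebraicGeometry TopologicalSpace

universe u

namespace Groth.Agent.Lead.Lim

theorem quasiFiniteAt_of_isPullback {X₀ Y₀ X Y : Scheme.{u}} {f₀ : X₀ ⟶ Y₀} {f : X ⟶ Y} {qY : Y ⟶ Y₀} {qX : X ⟶ X₀}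
    (hX : IsPullback qX f f₀ qY) [LocallyQuasiFinite f] [QuasiCompact f] [LocallyOfFiniteType f₀] (x : X) :
    f₀.QuasiFiniteAt (qX x) := by
  have hfin : (f₀ ⁻¹' {f₀ (qX x)}).Finite := by
    refine ((f.finite_preimage_singleton (f x)).image qX).subset fun z hz => ?_
    have : f₀ z = qY (f x) := by
      rw [Set.mem_preimage, Set.mem_singleton_iff] at hz
      rw [hz, ← Scheme.Hom.comp_apply, hX.w, Scheme.Hom.comp_apply]
    obtain ⟨p, hp₁, hp₂⟩ := Scheme.exists_preimage_of_isPullback hX z (f x) this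
    exact ⟨p, hp₂, hp₁⟩
  rw [Scheme.Hom.quasiFiniteAt_iff_isOpen_singleton_asFiber]
  haveI : Finite (f₀ ⁻¹' {f₀ (qX x)}) := hfin.to_subtype
  haveI : Finite ↥(f₀.fiber (f₀ (qX x))) := Finite.of_equiv _ (f₀.fiberHomeo (f₀ (qX x))).symm.toEquiv
  haveI : LocallyOfFiniteType (f₀.fiberToSpecResidueField (f₀ (qX x))) :=
    MorphismProperty.pullback_snd (P := @LocallyOfFiniteType) _ _ inferInstance
  haveI : LocallyQuasiFinite (f₀.fiberToSpecResidueField (f₀ (qX x))) :=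
    .of_finite_preimage_singleton _ fun _ => Set.toFinite _
  haveI : IsLocallyArtinian (f₀.fiber (f₀ (qX x))) := .of_locallyQuasiFinite (f₀.fiberToSpecResidueField (f₀ (qX x)))
  exact isOpen_discrete _

variable {I : Type u} [SmallCategory I] [IsCofiltered I] (D : I ⥤ Scheme.{u}) (c : Cone D) (hc : IsLimit c)
  [∀ (i j : I) (f : i ⟶ j), IsAffineHom (D.map f)]

include hc in
theorem exists_locallyQuasiFinite (i₀ : I) [CompactSpace (D.obj i₀)] [QuasiSeparatedSpace (D.obj i₀)] {X₀ Y₀ : Scheme.{u}}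
    (f₀ : X₀ ⟶ Y₀) (g₀ : Y₀ ⟶ D.obj i₀) [LocallyOfFinitePresentation g₀] [QuasiCompact g₀] [QuasiSeparated g₀]
    [LocallyOfFinitePresentation (f₀ ≫ g₀)] [QuasiCompact (f₀ ≫ g₀)] [QuasiSeparated (f₀ ≫ g₀)]
    {X Y : Scheme.{u}} {f : X ⟶ Y} {g : Y ⟶ c.pt} {qY : Y ⟶ Y₀} {qX : X ⟶ X₀}
    (hY : IsPullback qY g g₀ (c.π.app i₀)) (hX : IsPullback qX f f₀ qY) [LocallyQuasiFinite f] :
    ∃ (i : I) (φ : i ⟶ i₀), LocallyQuasiFinite (pullback.snd f₀ (pullback.fst g₀ (D.map φ))) := by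
  haveI : ∀ {i j : I} (f : i ⟶ j), IsAffineHom (D.map f) := fun f => ‹∀ (i j : I) (f : i ⟶ j), IsAffineHom (D.map f)› _ _ f
  obtain ⟨_, _, _, _, _, _, _⟩ := source_props f₀ g₀
  haveI : QuasiCompact f := MorphismProperty.of_isPullback hX inferInstance
  let U := f₀.quasiFiniteLocus
  let E := Groth.Agent.Lim.Topo.bcDiagram D (f₀ ≫ g₀)
  let cE := Groth.Agent.Lim.Topo.bcCone D c (f₀ ≫ g₀)
  haveI : ∀ {a b : Over i₀} (w : a ⟶ b), IsAffineHom (E.map w) := fun w =>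
    Groth.Agent.Lim.Topo.isAffineHom_bcDiagram_map D (f₀ ≫ g₀) w
  haveI hA (a : Over i₀) : IsAffineHom (pullback.snd (D.map a.hom) (f₀ ≫ g₀)) :=
    MorphismProperty.pullback_snd (P := @IsAffineHom) _ _ (inferInstance : IsAffineHom (D.map a.hom))
  haveI (a : Over i₀) : QuasiCompact (pullback.snd (D.map a.hom) (f₀ ≫ g₀)) := @instQuasiCompactOfIsAffineHom _ _ _ (hA a)
  haveI (a : Over i₀) : CompactSpace (E.obj a) :=
    QuasiCompact.compactSpace_of_compactSpace (pullback.snd (D.map a.hom) (f₀ ≫ g₀))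
  let a₀ : Over i₀ := Over.mk (𝟙 i₀)
  have hlim : cE.π.app a₀ ≫ pullback.snd (D.map a₀.hom) (f₀ ≫ g₀) = (hX.paste_vert hY).flip.isoPullback.inv ≫ qX := by
    simp [cE, a₀, Groth.Agent.Lim.Topo.bcCone, pullback.map]
  obtain ⟨a, w, ha⟩ := exists_map_eq_top E cE (Groth.Agent.Lim.Topo.isLimitBcCone D c hc (f₀ ≫ g₀)) (i := a₀)
    (pullback.snd (D.map a₀.hom) (f₀ ≫ g₀) ⁻¹ᵁ U) (by
      refine eq_top_iff.2 fun p _ => ?_
      show (cE.π.app a₀ ≫ pullback.snd (D.map a₀.hom) (f₀ ≫ g₀)) p ∈ U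
      rw [hlim, Scheme.Hom.comp_apply]
      exact Scheme.Hom.mem_quasiFiniteLocus.2 (quasiFiniteAt_of_isPullback hX _))
  refine ⟨a.left, a.hom, ?_⟩
  let pY := pullback.fst g₀ (D.map a.hom)
  let pX := pullback.fst f₀ pY
  let hsq := ((IsPullback.of_hasPullback f₀ pY).paste_vert (IsPullback.of_hasPullback g₀ (D.map a.hom))).flip
  have e1 : hsq.isoPullback.hom ≫ E.map w ≫ pullback.snd (D.map a₀.hom) (f₀ ≫ g₀) = pX := by
    simp [E, a₀, pX, Groth.Agent.Lim.Topo.bcDiagram]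
  have hU : ∀ p, pX p ∈ U := fun p => by
    rw [← e1, Scheme.Hom.comp_apply, Scheme.Hom.comp_apply]
    exact ha.ge (Set.mem_univ (hsq.isoPullback.hom p))
  let pX' : pullback f₀ pY ⟶ U := IsOpenImmersion.lift U.ι pX (by
    rw [Scheme.Opens.range_ι]; rintro _ ⟨p, rfl⟩; exact hU p)
  have h1 : IsPullback pX' (𝟙 _) U.ι pX := by
    apply IsOpenImmersion.isPullback
    · simp [pX']
    · ext p; simp [hU p]
  have h2 := h1.paste_vert (IsPullback.of_hasPullback f₀ pY)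
  rw [Category.id_comp] at h2
  exact MorphismProperty.of_isPullback h2 (inferInstance : LocallyQuasiFinite (U.ι ≫ f₀))

end Groth.Agent.Lead.Lim
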