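import Groth.Agent.Lead.Lim.EGA

/-!
Moving descent problems to later stages; descent of open immersions.
-/

set_option autoImplicit false
set_option backward.isDefEq.respectTransparency false
set_option backward.defeqAttrib.useBackward true

open CategoryTheory Limits AlgebraicGeometry TopologicalSpace Topology

universe u

namespace Groth.Agent.Lead.Lim

variable {I : Type u} [SmallCategory I] [IsCofiltered I] (D : I ⥤ Scheme.{u}) (c : Cone D) (hc : IsLimit c)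
  [∀ (i j : I) (f : i ⟶ j), IsAffineHom (D.map f)]

omit [IsCofiltered I] [∀ (i j : I) (f : i ⟶ j), IsAffineHom (D.map f)] in
/-- the limit square over a later stage -/
theorem exists_lift_square {i j : I} (φ : j ⟶ i) {Y₀ Y₁ Y : Scheme.{u}} {g₀ : Y₀ ⟶ D.obj i} {g : Y ⟶ c.pt} {qY : Y ⟶ Y₀}
    (hY : IsPullback qY g g₀ (c.π.app i)) {pY : Y₁ ⟶ Y₀} {g₁ : Y₁ ⟶ D.obj j} (h₁ : IsPullback pY g₁ g₀ (D.map φ)) :
    ∃ q : Y ⟶ Y₁, IsPullback q g g₁ (c.π.app j) ∧ q ≫ pY = qY := by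
  have w : qY ≫ g₀ = (g ≫ c.π.app j) ≫ D.map φ := by rw [Category.assoc, c.w]; exact hY.w
  refine ⟨h₁.lift qY (g ≫ c.π.app j) w, IsPullback.of_right ?_ (h₁.lift_snd _ _ _) h₁, h₁.lift_fst _ _ _⟩
  rw [h₁.lift_fst, c.w]
  exact hY

omit [IsCofiltered I] [∀ (i j : I) (f : i ⟶ j), IsAffineHom (D.map f)] in
/-- the upper limit square over a later stage -/
theorem exists_lift_square_over {X₀ Y₀ X₁ Y₁ X Y : Scheme.{u}} {f₀ : X₀ ⟶ Y₀} {f : X ⟶ Y} {qY : Y ⟶ Y₀} {qX : X ⟶ X₀}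
    (hX : IsPullback qX f f₀ qY) {pY : Y₁ ⟶ Y₀} {pX : X₁ ⟶ X₀} {f₁ : X₁ ⟶ Y₁} (h₁ : IsPullback pX f₁ f₀ pY)
    {q : Y ⟶ Y₁} (hq : q ≫ pY = qY) : ∃ q' : X ⟶ X₁, IsPullback q' f f₁ q ∧ q' ≫ pX = qX := by
  have w : qX ≫ f₀ = (f ≫ q) ≫ pY := by rw [Category.assoc, hq]; exact hX.w
  refine ⟨h₁.lift qX (f ≫ q) w, IsPullback.of_right ?_ (h₁.lift_snd _ _ _) h₁, h₁.lift_fst _ _ _⟩
  rw [h₁.lift_fst, hq]
  exact hX

omit [IsCofiltered I] [∀ (i j : I) (f : i ⟶ j), IsAffineHom (D.map f)] in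
/-- composing stages -/
theorem paste_stage {i j k : I} (φ : j ⟶ i) (ψ : k ⟶ j) {Y₀ Y₁ Y₂ : Scheme.{u}} {g₀ : Y₀ ⟶ D.obj i} {pY : Y₁ ⟶ Y₀}
    {g₁ : Y₁ ⟶ D.obj j} (h₁ : IsPullback pY g₁ g₀ (D.map φ)) {pY' : Y₂ ⟶ Y₁} {g₂ : Y₂ ⟶ D.obj k}
    (h₂ : IsPullback pY' g₂ g₁ (D.map ψ)) : IsPullback (pY' ≫ pY) g₂ g₀ (D.map (ψ ≫ φ)) := by
  rw [D.map_comp]
  exact h₂.paste_horiz h₁

include hc in
theorem exists_factor_open (i₀ : I) [CompactSpace (D.obj i₀)] [QuasiSeparatedSpace (D.obj i₀)] {X₀ Y₀ : Scheme.{u}}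
    (f₀ : X₀ ⟶ Y₀) (g₀ : Y₀ ⟶ D.obj i₀) [CompactSpace X₀] [CompactSpace Y₀] [QuasiSeparatedSpace Y₀]
    {X Y : Scheme.{u}} {f : X ⟶ Y} {g : Y ⟶ c.pt} {qY : Y ⟶ Y₀} {qX : X ⟶ X₀}
    (hY : IsPullback qY g g₀ (c.π.app i₀)) (hX : IsPullback qX f f₀ qY)
    (U : Y.Opens) (hU : IsCompact (U : Set Y)) (hfU : f ⁻¹ᵁ U = ⊤) :
    ∃ (l : I) (φ : l ⟶ i₀) (Xl Yl : Scheme.{u}) (fl : Xl ⟶ Yl) (gl : Yl ⟶ D.obj l) (pY : Yl ⟶ Y₀) (pX : Xl ⟶ X₀)
      (qY' : Y ⟶ Yl) (qX' : X ⟶ Xl) (V : Yl.Opens),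
      IsPullback pY gl g₀ (D.map φ) ∧ IsPullback pX fl f₀ pY ∧ IsPullback qY' g gl (c.π.app l) ∧
      IsPullback qX' f fl qY' ∧ IsCompact (V : Set Yl) ∧ qY' ⁻¹ᵁ V = U ∧ fl ⁻¹ᵁ V = ⊤ ∧
      CompactSpace Xl ∧ CompactSpace Yl ∧ QuasiSeparatedSpace Yl := by
  haveI : ∀ {i j : I} (f : i ⟶ j), IsAffineHom (D.map f) := fun f => ‹∀ (i j : I) (f : i ⟶ j), IsAffineHom (D.map f)› _ _ f
  let F := Groth.Agent.Lim.Topo.bcDiagram D g₀
  let cF := Groth.Agent.Lim.Topo.bcCone D c g₀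
  haveI : ∀ {a b : Over i₀} (w : a ⟶ b), IsAffineHom (F.map w) := fun w => Groth.Agent.Lim.Topo.isAffineHom_bcDiagram_map D g₀ w
  haveI hA (a : Over i₀) : IsAffineHom (pullback.snd (D.map a.hom) g₀) :=
    MorphismProperty.pullback_snd (P := @IsAffineHom) _ _ (inferInstance : IsAffineHom (D.map a.hom))
  haveI (a : Over i₀) : QuasiCompact (pullback.snd (D.map a.hom) g₀) := @instQuasiCompactOfIsAffineHom _ _ _ (hA a)
  haveI (a : Over i₀) : CompactSpace (F.obj a) := QuasiCompact.compactSpace_of_compactSpace (pullback.snd (D.map a.hom) g₀)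
  haveI (a : Over i₀) : QuasiSeparatedSpace (F.obj a) := quasiSeparatedSpace_of_quasiSeparated (pullback.snd (D.map a.hom) g₀)
  let e : Y ≅ pullback (c.π.app i₀) g₀ := hY.flip.isoPullback
  obtain ⟨a, V, hV, hVU⟩ := exists_preimage_eq F cF (Groth.Agent.Lim.Topo.isLimitBcCone D c hc g₀) (e.inv ⁻¹ᵁ U)
    (e.inv.homeomorph.isCompact_preimage.2 hU)
  have hk : IsPullback (pullback.snd (D.map a.hom) g₀) (pullback.fst (D.map a.hom) g₀) g₀ (D.map a.hom) :=
    (IsPullback.of_hasPullback _ _).flip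
  obtain ⟨qYk, hYk, hqYk⟩ := exists_lift_square D c a.hom hY hk
  have hqe : qYk = e.hom ≫ cF.π.app a := by
    apply hk.hom_ext
    · rw [hqYk]
      show qY = (e.hom ≫ pullback.map (c.π.app i₀) g₀ (D.map a.hom) g₀ (c.π.app a.left) (𝟙 _) (𝟙 _) (by simp) (by simp)) ≫ _
      simp [e]
    · rw [hYk.w]
      show g ≫ c.π.app a.left = (e.hom ≫ pullback.map (c.π.app i₀) g₀ (D.map a.hom) g₀ (c.π.app a.left) (𝟙 _) (𝟙 _) (by simp) (by simp)) ≫ _
      simp [e]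
  have hqV : qYk ⁻¹ᵁ V = U := by
    rw [hqe, Scheme.Hom.comp_preimage]
    erw [hVU]
    rw [← Scheme.Hom.comp_preimage, Iso.hom_inv_id]
    rfl
  -- the source at stage `a`
  let pXk := pullback.fst f₀ (pullback.snd (D.map a.hom) g₀)
  let fk := pullback.snd f₀ (pullback.snd (D.map a.hom) g₀)
  let gk := pullback.fst (D.map a.hom) g₀
  have hXk₀ : IsPullback pXk fk f₀ (pullback.snd (D.map a.hom) g₀) := IsPullback.of_hasPullback _ _
  obtain ⟨qXk, hXk, hqXk⟩ := exists_lift_square_over hX hXk₀ hqYk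
  haveI : QuasiCompact pXk :=
    MorphismProperty.pullback_fst (P := @QuasiCompact) _ _ (inferInstance : QuasiCompact (pullback.snd (D.map a.hom) g₀))
  haveI : CompactSpace ↥(pullback f₀ (pullback.snd (D.map a.hom) g₀)) := QuasiCompact.compactSpace_of_compactSpace pXk
  let E := Groth.Agent.Lim.Topo.bcDiagram D (fk ≫ gk)
  let cE := Groth.Agent.Lim.Topo.bcCone D c (fk ≫ gk)
  haveI : ∀ {a' b : Over a.left} (w : a' ⟶ b), IsAffineHom (E.map w) := fun w => Groth.Agent.Lim.Topo.isAffineHom_bcDiagram_map D (fk ≫ gk) w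
  haveI hB (b : Over a.left) : IsAffineHom (pullback.snd (D.map b.hom) (fk ≫ gk)) :=
    MorphismProperty.pullback_snd (P := @IsAffineHom) _ _ (inferInstance : IsAffineHom (D.map b.hom))
  haveI (b : Over a.left) : QuasiCompact (pullback.snd (D.map b.hom) (fk ≫ gk)) := @instQuasiCompactOfIsAffineHom _ _ _ (hB b)
  haveI (b : Over a.left) : CompactSpace (E.obj b) := QuasiCompact.compactSpace_of_compactSpace (pullback.snd (D.map b.hom) (fk ≫ gk))
  let b₀ : Over a.left := Over.mk (𝟙 a.left)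
  have hlim : cE.π.app b₀ ≫ pullback.snd (D.map b₀.hom) (fk ≫ gk) = (hXk.paste_vert hYk).flip.isoPullback.inv ≫ qXk := by
    rw [Iso.eq_inv_comp]
    show _ ≫ pullback.map (c.π.app a.left) (fk ≫ gk) (D.map b₀.hom) (fk ≫ gk) (c.π.app b₀.left) (𝟙 _) (𝟙 _)
      (by simp [b₀]) (by simp) ≫ pullback.snd _ _ = _
    simp only [limit.lift_π, PullbackCone.mk_π_app, Category.comp_id, pullback.map]
    exact (hXk.paste_vert hYk).flip.isoPullback_hom_snd
  obtain ⟨b, w, hb⟩ := exists_map_eq_top E cE (Groth.Agent.Lim.Topo.isLimitBcCone D c hc (fk ≫ gk)) (i := b₀)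
    (pullback.snd (D.map b₀.hom) (fk ≫ gk) ⁻¹ᵁ (fk ⁻¹ᵁ V)) (by
      rw [← Scheme.Hom.comp_preimage, hlim, Scheme.Hom.comp_preimage, ← Scheme.Hom.comp_preimage qXk, hXk.w,
        Scheme.Hom.comp_preimage f, hqV, hfU]
      rfl)
  let Yl := pullback gk (D.map b.hom)
  let Xl := pullback fk (pullback.fst gk (D.map b.hom))
  have hYl := paste_stage D a.hom b.hom hk (IsPullback.of_hasPullback gk (D.map b.hom))
  have hXl := (IsPullback.of_hasPullback fk (pullback.fst gk (D.map b.hom))).paste_horiz hXk₀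
  obtain ⟨qY', hqY', hqY'1⟩ := exists_lift_square D c b.hom hYk (IsPullback.of_hasPullback gk (D.map b.hom))
  obtain ⟨qX', hqX', -⟩ := exists_lift_square_over hXk (IsPullback.of_hasPullback fk (pullback.fst gk (D.map b.hom))) hqY'1
  haveI : IsAffineHom (pullback.fst gk (D.map b.hom)) :=
    MorphismProperty.pullback_fst (P := @IsAffineHom) _ _ (inferInstance : IsAffineHom (D.map b.hom))
  haveI : IsAffineHom (pullback.fst fk (pullback.fst gk (D.map b.hom))) :=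
    MorphismProperty.pullback_fst (P := @IsAffineHom) _ _ inferInstance
  refine ⟨b.left, b.hom ≫ a.hom, Xl, Yl, pullback.snd _ _, pullback.snd _ _, _, _, qY', qX',
    pullback.fst gk (D.map b.hom) ⁻¹ᵁ V, hYl, hXl, hqY', hqX', QuasiCompact.isCompact_preimage _ V.2 hV, ?_, ?_,
    QuasiCompact.compactSpace_of_compactSpace (pullback.fst fk (pullback.fst gk (D.map b.hom))),
    QuasiCompact.compactSpace_of_compactSpace (Y := F.obj a) (pullback.fst gk (D.map b.hom)),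
    quasiSeparatedSpace_of_quasiSeparated (Y := F.obj a) (pullback.fst gk (D.map b.hom))⟩
  · rw [← Scheme.Hom.comp_preimage, hqY'1, hqV]
  · let hsq := ((IsPullback.of_hasPullback fk (pullback.fst gk (D.map b.hom))).paste_vert (IsPullback.of_hasPullback gk (D.map b.hom))).flip
    have e1 : hsq.isoPullback.hom ≫ E.map w ≫ pullback.snd (D.map b₀.hom) (fk ≫ gk) = pullback.fst fk (pullback.fst gk (D.map b.hom)) := by
      simp [E, Groth.Agent.Lim.Topo.bcDiagram]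
    rw [← Scheme.Hom.comp_preimage, ← pullback.condition, ← e1, Scheme.Hom.comp_preimage, Scheme.Hom.comp_preimage,
      Scheme.Hom.comp_preimage, hb]
    rfl

include hc in
theorem exists_isOpenImmersion (i₀ : I) [CompactSpace (D.obj i₀)] [QuasiSeparatedSpace (D.obj i₀)] {X₀ Y₀ : Scheme.{u}}
    (f₀ : X₀ ⟶ Y₀) (g₀ : Y₀ ⟶ D.obj i₀) [LocallyOfFinitePresentation g₀] [QuasiCompact g₀] [QuasiSeparated g₀]
    [LocallyOfFinitePresentation (f₀ ≫ g₀)] [QuasiCompact (f₀ ≫ g₀)] [QuasiSeparated (f₀ ≫ g₀)]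
    {X Y : Scheme.{u}} {f : X ⟶ Y} {g : Y ⟶ c.pt} {qY : Y ⟶ Y₀} {qX : X ⟶ X₀}
    (hY : IsPullback qY g g₀ (c.π.app i₀)) (hX : IsPullback qX f f₀ qY) [IsOpenImmersion f] :
    ∃ (i : I) (φ : i ⟶ i₀), IsOpenImmersion (pullback.snd f₀ (pullback.fst g₀ (D.map φ))) := by
  haveI : ∀ {i j : I} (f : i ⟶ j), IsAffineHom (D.map f) := fun f => ‹∀ (i j : I) (f : i ⟶ j), IsAffineHom (D.map f)› _ _ f
  obtain ⟨_, _, _, _, _, _, _⟩ := source_props f₀ g₀
  haveI : IsAffineHom (c.π.app i₀) := isAffineHom_π_app _ _ hc i₀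
  haveI : IsAffineHom qY := MorphismProperty.of_isPullback (P := @IsAffineHom) hY.flip inferInstance
  haveI : IsAffineHom qX := MorphismProperty.of_isPullback (P := @IsAffineHom) hX.flip inferInstance
  haveI : CompactSpace X := QuasiCompact.compactSpace_of_compactSpace qX
  obtain ⟨l, φ, Xl, Yl, fl, gl, pY, pX, qY', qX', V, h1, h2, h3, h4, hVc, hVU, hflV, hXc, hYc, hYqs⟩ :=
    exists_factor_open D c hc i₀ f₀ g₀ hY hX f.opensRange (isCompact_range f.continuous)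
      (eq_top_iff.2 fun x _ => ⟨x, rfl⟩)
  let h₀ : Xl ⟶ V := IsOpenImmersion.lift V.ι fl (by
    rw [Scheme.Opens.range_ι]
    rintro _ ⟨x, rfl⟩
    exact hflV.ge (Set.mem_univ x))
  have hh₀ : h₀ ≫ V.ι = fl := IsOpenImmersion.lift_fac _ _ _
  haveI : IsAffineHom pY := MorphismProperty.of_isPullback (P := @IsAffineHom) h1.flip inferInstance
  haveI : IsAffineHom pX := MorphismProperty.of_isPullback (P := @IsAffineHom) h2.flip inferInstance
  haveI : QuasiSeparatedSpace Xl := quasiSeparatedSpace_of_quasiSeparated pX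
  haveI : CompactSpace (V : Scheme.{u}) := isCompact_iff_compactSpace.mp hVc
  haveI : QuasiSeparatedSpace (V : Scheme.{u}) :=
    (isQuasiSeparated_iff_quasiSeparatedSpace _ V.2).mp (.of_quasiSeparatedSpace _)
  haveI : LocallyOfFinitePresentation gl := MorphismProperty.of_isPullback h1 inferInstance
  haveI : LocallyOfFinitePresentation fl := MorphismProperty.of_isPullback h2 inferInstance
  have hB := (isPullback_morphismRestrict qY' V).paste_vert h3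
  have hrange : Set.range f = Set.range (qY' ⁻¹ᵁ V).ι := by rw [Scheme.Opens.range_ι, hVU]; rfl
  obtain ⟨k, χ, hk⟩ := exists_isIso_descend D c hc l (fl ≫ gl) (V.ι ≫ gl) h₀ (by rw [reassoc_of% hh₀])
    ((isIso_map_iff (by rw [reassoc_of% hh₀]) (h4.paste_vert h3) hB
      (h := (IsOpenImmersion.isoOfRangeEq f (qY' ⁻¹ᵁ V).ι hrange).hom)
      (by rw [← cancel_mono V.ι, Category.assoc, morphismRestrict_ι, IsOpenImmersion.isoOfRangeEq_hom_fac_assoc,
            Category.assoc, hh₀, h4.w])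
      (by rw [IsOpenImmersion.isoOfRangeEq_hom_fac_assoc])).2 inferInstance)
  let pYk := pullback.fst g₀ (D.map (χ ≫ φ))
  refine ⟨k, χ ≫ φ, ?_⟩
  -- compare with the stage `k` over `l`
  let pYm : pullback g₀ (D.map (χ ≫ φ)) ⟶ Yl :=
    h1.lift pYk (pullback.snd _ _ ≫ D.map χ) (by rw [pullback.condition, Category.assoc, ← D.map_comp])
  have hYm : IsPullback pYm (pullback.snd g₀ (D.map (χ ≫ φ))) gl (D.map χ) := by
    refine IsPullback.of_right ?_ (h1.lift_snd _ _ _) h1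
    rw [h1.lift_fst, ← D.map_comp]
    exact IsPullback.of_hasPullback _ _
  obtain ⟨pXm, hXm, -⟩ := exists_lift_square_over (IsPullback.of_hasPullback f₀ pYk) h2 (q := pYm) (h1.lift_fst _ _ _)
  let fi := pullback.snd f₀ pYk
  let hm : pullback f₀ pYk ⟶ (pYm ⁻¹ᵁ V : (pullback g₀ (D.map (χ ≫ φ))).Opens) :=
    IsOpenImmersion.lift (pYm ⁻¹ᵁ V).ι fi (by
      rw [Scheme.Opens.range_ι]
      rintro _ ⟨x, rfl⟩
      show (fi ≫ pYm) x ∈ V
      rw [← hXm.w, Scheme.Hom.comp_apply]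
      exact hflV.ge (Set.mem_univ (pXm x)))
  have hhm : hm ≫ (pYm ⁻¹ᵁ V).ι = fi := IsOpenImmersion.lift_fac _ _ _
  haveI : IsIso hm := (isIso_map_iff (by rw [reassoc_of% hh₀]) (hXm.paste_vert hYm)
    ((isPullback_morphismRestrict pYm V).paste_vert hYm) (h := hm)
    (by rw [← cancel_mono V.ι, Category.assoc, morphismRestrict_ι, reassoc_of% hhm, Category.assoc, hh₀, hXm.w])
    (by rw [reassoc_of% hhm])).1 hk
  show IsOpenImmersion fi
  rw [← hhm]
  infer_instance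

end Groth.Agent.Lead.Lim
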