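import Groth.Agent.Lim.Topo
import Groth.Agent.Lim.Flat
import Mathlib.AlgebraicGeometry.AffineTransitionLimit

/-! Images of projections of cofiltered limits with affine transition maps. -/

set_option autoImplicit false

open CategoryTheory Limits AlgebraicGeometry TopologicalSpace

universe u

namespace Groth.Agent.Lead.Lim

variable {I : Type u} [Category.{u} I] [IsCofiltered I] (D : I ⥤ Scheme.{u}) (c : Cone D)
  (hc : IsLimit c) [∀ {i j : I} (f : i ⟶ j), IsAffineHom (D.map f)]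

include hc

theorem range_π (i : I) : Set.range (c.π.app i) = ⋂ (j : I) (φ : j ⟶ i), Set.range (D.map φ) := by
  refine subset_antisymm ?_ fun y hy => ?_
  · rintro _ ⟨x, rfl⟩
    simp only [Set.mem_iInter]
    intro j φ
    exact ⟨c.π.app j x, by rw [← Scheme.Hom.comp_apply, c.w]⟩
  · by_contra h
    haveI : CompactSpace (Spec ((D.obj i).residueField y)) := inferInstance
    obtain ⟨j, φ, hφ⟩ := Groth.Agent.Lim.Topo.eventually_notMem_range D c hc ((D.obj i).fromSpecResidueField y)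
      (fun x hx => h ⟨x, by rw [Scheme.range_fromSpecResidueField] at hx; exact hx⟩)
    simp only [Set.mem_iInter] at hy
    obtain ⟨z, hz⟩ := hy j φ
    exact hφ z (by rw [Scheme.range_fromSpecResidueField, hz]; rfl)

theorem surjective_π_iff (i : I) :
    Function.Surjective (c.π.app i) ↔ ∀ (j : I) (φ : j ⟶ i), Function.Surjective (D.map φ) := by
  simp only [← Set.range_eq_univ, range_π D c hc i, Set.iInter_eq_univ]

theorem denseRange_π_iff (i : I) :
    DenseRange (c.π.app i) ↔ ∀ (j : I) (φ : j ⟶ i), DenseRange (D.map φ) := by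
  refine ⟨fun h j φ => h.mono ?_, fun hd x => ?_⟩
  · rw [range_π D c hc i]
    exact Set.iInter₂_subset (s := fun (j : I) (φ : j ⟶ i) => Set.range (D.map φ)) j φ
  rw [mem_closure_iff]
  intro U hU hxU
  obtain ⟨V, hV, hxV, hVU⟩ : ∃ V : (D.obj i).Opens, IsAffineOpen V ∧ x ∈ V ∧ (V : Set (D.obj i)) ⊆ U := by
    obtain ⟨_, ⟨V, hV, rfl⟩, hxV, hVU⟩ := (D.obj i).isBasis_affineOpens.exists_subset_of_mem_open hxU hU
    exact ⟨V, hV, hxV, hVU⟩
  by_contra hne
  have : IsAffine (V : Scheme.{u}) := hV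
  obtain ⟨j, φ, hφ⟩ := Groth.Agent.Lim.Topo.eventually_notMem_range D c hc V.ι fun z hz => hne
    ⟨c.π.app i z, hVU (V.range_ι.subset hz), z, rfl⟩
  obtain ⟨y, hy⟩ := (hd j φ).exists_mem_open V.2 ⟨x, hxV⟩
  exact hφ y (V.range_ι.symm.subset hy)

theorem isEmpty_pullback (i : I) {T : Scheme.{u}} (a : T ⟶ D.obj i) [CompactSpace T]
    (h : IsEmpty ↥(pullback a (c.π.app i))) :
    ∃ (i' : I) (φ : i' ⟶ i), IsEmpty ↥(pullback a (D.map φ)) := by
  obtain ⟨j, φ, hφ⟩ := Groth.Agent.Lim.Topo.eventually_notMem_range D c hc a fun x ⟨t, ht⟩ => by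
    obtain ⟨p, -⟩ := Scheme.Pullback.exists_preimage_pullback (f := a) (g := c.π.app i) t x ht
    exact h.false p
  refine ⟨j, φ, ⟨fun p => hφ (pullback.snd a (D.map φ) p) ⟨pullback.fst a (D.map φ) p, ?_⟩⟩⟩
  rw [← Scheme.Hom.comp_apply, ← Scheme.Hom.comp_apply, pullback.condition]

theorem isOpenMap_π_iff (i : I) (hs : ∀ (j : I) (_ : j ⟶ i), Function.Surjective (c.π.app j)) :
    IsOpenMap (c.π.app i) ↔ ∀ (j : I) (φ : j ⟶ i), IsOpenMap (D.map φ) := by
  refine ⟨fun h j φ U hU => ?_, fun h U hU => ?_⟩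
  · have e : D.map φ '' U = c.π.app i '' (c.π.app j ⁻¹' U) := by
      conv_lhs => rw [← Set.image_preimage_eq U (hs j φ)]
      rw [← Set.image_comp]
      refine Set.image_congr' fun x => ?_
      show D.map φ (c.π.app j x) = _
      rw [← Scheme.Hom.comp_apply, c.w]
    rw [e]
    exact h _ (hU.preimage (c.π.app j).continuous)
  · refine isOpen_iff_forall_mem_open.2 ?_
    rintro _ ⟨x, hx, rfl⟩
    obtain ⟨_, ⟨k, V, hV, rfl⟩, hxV, hVU⟩ := Opens.isBasis_iff_nbhd.mp (isBasis_preimage_isAffineOpen D c hc)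
      (U := ⟨U, hU⟩) hx
    obtain ⟨l, a, b, -⟩ := IsCofilteredOrEmpty.cone_objs i k
    refine ⟨D.map a '' (D.map b ⁻¹' (V : Set (D.obj k))), ?_, h l a _ (V.2.preimage (D.map b).continuous), ?_⟩
    · rintro _ ⟨y, hy, rfl⟩
      obtain ⟨z, rfl⟩ := hs l a y
      refine ⟨z, hVU ?_, ?_⟩
      · show c.π.app k z ∈ V
        rw [← c.w b, Scheme.Hom.comp_apply]
        exact hy
      · rw [← Scheme.Hom.comp_apply, c.w]
    · refine ⟨c.π.app l x, ?_, ?_⟩
      · show D.map b (c.π.app l x) ∈ V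
        rw [← Scheme.Hom.comp_apply, c.w]
        exact hxV
      · rw [← Scheme.Hom.comp_apply, c.w]

end Groth.Agent.Lead.Lim
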