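import Groth.Agent.Lead.Lim.FlatPi
import Groth.Agent.Lead.Lim.Topo
import Mathlib.AlgebraicGeometry.Properties
import Mathlib.RingTheory.Flat.FaithfullyFlat.Basic

/-! Reducedness of limits. -/

set_option autoImplicit false

open CategoryTheory Limits AlgebraicGeometry TopologicalSpace Opposite

universe u

namespace Groth.Agent.Lead.Lim

variable {I : Type u} [Category.{u} I] [IsCofiltered I] (D : I ⥤ Scheme.{u}) (c : Cone D)
  (hc : IsLimit c) [∀ {i j : I} (f : i ⟶ j), IsAffineHom (D.map f)]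

include hc

theorem eventually_not_isReduced (h : ¬ IsReduced c.pt) :
    ∃ i : I, ∀ (j : I) (_ : j ⟶ i), ¬ IsReduced (D.obj j) := by
  have : ∃ x : c.pt, ¬ _root_.IsReduced (c.pt.presheaf.stalk x) := by
    by_contra! hh
    exact h (isReduced_of_isReduced_stalk c.pt)
  obtain ⟨x, hx⟩ := this
  simp only [_root_.isReduced_iff, not_forall] at hx
  obtain ⟨a, ⟨n, hn⟩, ha⟩ := hx
  obtain ⟨i, b, rfl⟩ := exists_stalkMap_eq D c hc x a
  obtain ⟨j, φ, hj⟩ := stalkMap_eq_zero D c hc x (b ^ n) (by rw [map_pow, hn])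
  refine ⟨j, fun k ψ hk => ha ?_⟩
  haveI := hk
  have h1 : IsNilpotent (tr D c ψ x (tr D c φ x b)) := IsNilpotent.map ⟨n, by
    rw [← map_pow]; exact hj⟩ (tr D c ψ x).hom
  rw [← stalkMap_tr D c φ x b, ← stalkMap_tr D c ψ x (tr D c φ x b), h1.eq_zero, map_zero]

theorem isReduced_iff_forall
    (hf : ∀ {i j : I} (φ : i ⟶ j), AlgebraicGeometry.Flat (D.map φ) ∧ Surjective (D.map φ)) :
    IsReduced c.pt ↔ ∀ i : I, IsReduced (D.obj i) := by
  refine ⟨fun h i => ?_, fun h => by_contra fun hn => ?_⟩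
  · haveI : ∀ y : D.obj i, _root_.IsReduced ((D.obj i).presheaf.stalk y) := fun y => by
      obtain ⟨x, rfl⟩ := (surjective_π_iff D c hc i).2 (fun j φ => (hf φ).2.surj) y
      haveI := flat_π D c hc i fun j φ => (hf φ).1
      have hfl := AlgebraicGeometry.Flat.stalkMap (c.π.app i) x
      letI : Algebra ((D.obj i).presheaf.stalk (c.π.app i x)) (c.pt.presheaf.stalk x) :=
        ((c.π.app i).stalkMap x).hom.toAlgebra
      haveI : Module.Flat ((D.obj i).presheaf.stalk (c.π.app i x)) (c.pt.presheaf.stalk x) := hfl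
      haveI : IsLocalHom (algebraMap ((D.obj i).presheaf.stalk (c.π.app i x)) (c.pt.presheaf.stalk x)) :=
        inferInstanceAs (IsLocalHom ((c.π.app i).stalkMap x).hom)
      haveI := Module.FaithfullyFlat.of_flat_of_isLocalHom (A := (D.obj i).presheaf.stalk (c.π.app i x))
        (B := c.pt.presheaf.stalk x)
      exact isReduced_of_injective _ (FaithfulSMul.algebraMap_injective
        ((D.obj i).presheaf.stalk (c.π.app i x)) (c.pt.presheaf.stalk x))
    exact isReduced_of_isReduced_stalk (D.obj i)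
  · obtain ⟨i, hi⟩ := eventually_not_isReduced D c hc hn
    exact hi i (𝟙 i) (h i)

end Groth.Agent.Lead.Lim
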