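import Groth.Agent.Lead.Lim.SepGen
import Groth.Agent.Lead.Lim.Stalk
import Mathlib.AlgebraicGeometry.AffineTransitionLimit

/-!
Separatedness descends along limits with affine transition maps.
-/

set_option autoImplicit false

open CategoryTheory Limits AlgebraicGeometry TopologicalSpace

universe u

namespace Groth.Agent.Lead.Lim

variable {I : Type u} [Category.{u} I] [IsCofiltered I] (D : I ⥤ Scheme.{u}) (c : Cone D)
  (hc : IsLimit c) [∀ {i j : I} (f : i ⟶ j), IsAffineHom (D.map f)]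

section pair

variable {k : I} (U V : (D.obj k).Opens)

/-- subring generated by both opens -/
noncomputable def genSub {l : I} (φ : l ⟶ k) : Subring Γ(D.obj l, D.map φ ⁻¹ᵁ (U ⊓ V)) :=
  Subring.closure (Set.range (res (D.map φ ⁻¹ᵁ U) (D.map φ ⁻¹ᵁ (U ⊓ V)) ((D.map φ).preimage_mono inf_le_left)) ∪
    Set.range (res (D.map φ ⁻¹ᵁ V) (D.map φ ⁻¹ᵁ (U ⊓ V)) ((D.map φ).preimage_mono inf_le_right)))

omit [IsCofiltered I] [∀ {i j : I} (f : i ⟶ j), IsAffineHom (D.map f)] in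
theorem preimage_comp {l m : I} (φ : l ⟶ k) (ψ : m ⟶ l) (W : (D.obj k).Opens) :
    D.map (ψ ≫ φ) ⁻¹ᵁ W = D.map ψ ⁻¹ᵁ (D.map φ ⁻¹ᵁ W) := by
  rw [D.map_comp]; rfl

/-- transition on sections -/
noncomputable abbrev tr {l m : I} (φ : l ⟶ k) (ψ : m ⟶ l) (W : (D.obj k).Opens) :
    Γ(D.obj l, D.map φ ⁻¹ᵁ W) →+* Γ(D.obj m, D.map (ψ ≫ φ) ⁻¹ᵁ W) :=
  ((D.map ψ).appLE _ _ (preimage_comp D φ ψ W).le).hom

omit [IsCofiltered I] [∀ {i j : I} (f : i ⟶ j), IsAffineHom (D.map f)] in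
theorem tr_res {l m : I} (φ : l ⟶ k) (ψ : m ⟶ l) {W W' : (D.obj k).Opens} (e : W' ≤ W) (x : Γ(D.obj l, D.map φ ⁻¹ᵁ W)) :
    tr D φ ψ W' (res _ _ ((D.map φ).preimage_mono e) x) =
      res _ _ ((D.map (ψ ≫ φ)).preimage_mono e) (tr D φ ψ W x) := by
  show ((D.obj l).presheaf.map _ ≫ (D.map ψ).appLE _ _ _) x = ((D.map ψ).appLE _ _ _ ≫ (D.obj m).presheaf.map _) x
  rw [Scheme.Hom.map_appLE, Scheme.Hom.appLE_map]

omit [IsCofiltered I] [∀ {i j : I} (f : i ⟶ j), IsAffineHom (D.map f)] in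
theorem tr_mem {l m : I} (φ : l ⟶ k) (ψ : m ⟶ l) {w : Γ(D.obj l, D.map φ ⁻¹ᵁ (U ⊓ V))}
    (hw : w ∈ genSub D U V φ) : tr D φ ψ (U ⊓ V) w ∈ genSub D U V (ψ ≫ φ) := by
  refine (Subring.closure_le (t := (genSub D U V (ψ ≫ φ)).comap (tr D φ ψ (U ⊓ V)))).2 ?_ hw
  rintro _ (⟨x, rfl⟩ | ⟨x, rfl⟩)
  · exact Subring.subset_closure (Or.inl ⟨_, (tr_res D φ ψ inf_le_left x).symm⟩)
  · exact Subring.subset_closure (Or.inr ⟨_, (tr_res D φ ψ inf_le_right x).symm⟩)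

/-- projection on sections -/
noncomputable abbrev pr {l : I} (φ : l ⟶ k) (W : (D.obj k).Opens) :
    Γ(D.obj l, D.map φ ⁻¹ᵁ W) →+* Γ(c.pt, c.π.app k ⁻¹ᵁ W) :=
  ((c.π.app l).appLE _ _ (by rw [← Scheme.Hom.comp_preimage, c.w])).hom

omit [IsCofiltered I] [∀ {i j : I} (f : i ⟶ j), IsAffineHom (D.map f)] in
theorem pr_tr {l m : I} (φ : l ⟶ k) (ψ : m ⟶ l) (W : (D.obj k).Opens) (x : Γ(D.obj l, D.map φ ⁻¹ᵁ W)) :
    pr D c (ψ ≫ φ) W (tr D φ ψ W x) = pr D c φ W x := by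
  show ((D.map ψ).appLE _ _ _ ≫ (c.π.app m).appLE _ _ _) x = (c.π.app l).appLE _ _ _ x
  rw [Scheme.Hom.appLE_comp_appLE]
  simp only [c.w]

omit [IsCofiltered I] [∀ {i j : I} (f : i ⟶ j), IsAffineHom (D.map f)] in
theorem pr_res {l : I} (φ : l ⟶ k) {W W' : (D.obj k).Opens} (e : W' ≤ W) (x : Γ(D.obj l, D.map φ ⁻¹ᵁ W)) :
    pr D c φ W' (res _ _ ((D.map φ).preimage_mono e) x) = res _ _ ((c.π.app k).preimage_mono e) (pr D c φ W x) := by
  show ((D.obj l).presheaf.map _ ≫ (c.π.app l).appLE _ _ _) x = ((c.π.app l).appLE _ _ _ ≫ c.pt.presheaf.map _) x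
  rw [Scheme.Hom.map_appLE]; erw [Scheme.Hom.appLE_map]

include hc in
theorem exists_mem_genSub [c.pt.IsSeparated] (hU : IsAffineOpen U) (hV : IsAffineOpen V) (hUV : IsAffineOpen (U ⊓ V))
    (s : Finset Γ(D.obj k, U ⊓ V)) :
    ∃ (l : I) (φ : l ⟶ k), ∀ y ∈ s, (D.map φ).app (U ⊓ V) y ∈ genSub D U V φ := by
  classical
  haveI : ∀ i, IsAffineHom (c.π.app i) := fun i => isAffineHom_π_app _ _ hc i
  -- elements at the limit
  have lift : ∀ z : Γ(c.pt, c.π.app k ⁻¹ᵁ (U ⊓ V)),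
      ∃ (l : I) (φ : l ⟶ k), ∃ w ∈ genSub D U V φ, pr D c φ (U ⊓ V) w = z := by
    intro z
    have hz : z ∈ Subring.closure _ :=
      (closure_eq_top_of_isSeparated (X := c.pt) (U := c.π.app k ⁻¹ᵁ U) (V := c.π.app k ⁻¹ᵁ V) (hU.preimage (c.π.app k)) (hV.preimage (c.π.app k))).ge (Subring.mem_top z)
    induction hz using Subring.closure_induction with
    | mem z hz =>
      rcases hz with ⟨x, rfl⟩ | ⟨x, rfl⟩
      · obtain ⟨l, φ, t, rfl⟩ := exists_app_π_eq D c hc hU x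
        exact ⟨l, φ, _, Subring.subset_closure (Or.inl ⟨t, rfl⟩), pr_res D c φ inf_le_left t⟩
      · obtain ⟨l, φ, t, rfl⟩ := exists_app_π_eq D c hc hV x
        exact ⟨l, φ, _, Subring.subset_closure (Or.inr ⟨t, rfl⟩), pr_res D c φ inf_le_right t⟩
    | zero => exact ⟨k, 𝟙 k, 0, zero_mem _, map_zero _⟩
    | one => exact ⟨k, 𝟙 k, 1, one_mem _, map_one _⟩
    | add x y _ _ hx hy =>
      obtain ⟨l₁, φ₁, w₁, hw₁, rfl⟩ := hx
      obtain ⟨l₂, φ₂, w₂, hw₂, rfl⟩ := hy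
      obtain ⟨m, ψ₁, ψ₂, e⟩ := IsCofiltered.cospan φ₁ φ₂
      have h₂ : ∃ w ∈ genSub D U V (ψ₁ ≫ φ₁), pr D c (ψ₁ ≫ φ₁) (U ⊓ V) w = pr D c φ₂ (U ⊓ V) w₂ := by
        rw [e]; exact ⟨_, tr_mem D U V φ₂ ψ₂ hw₂, pr_tr D c φ₂ ψ₂ _ w₂⟩
      obtain ⟨w, hw, hw'⟩ := h₂
      exact ⟨m, ψ₁ ≫ φ₁, _, add_mem (tr_mem D U V φ₁ ψ₁ hw₁) hw, by rw [map_add, pr_tr, hw']⟩
    | neg x _ hx =>
      obtain ⟨l, φ, w, hw, rfl⟩ := hx
      exact ⟨l, φ, -w, neg_mem hw, map_neg _ _⟩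
    | mul x y _ _ hx hy =>
      obtain ⟨l₁, φ₁, w₁, hw₁, rfl⟩ := hx
      obtain ⟨l₂, φ₂, w₂, hw₂, rfl⟩ := hy
      obtain ⟨m, ψ₁, ψ₂, e⟩ := IsCofiltered.cospan φ₁ φ₂
      have h₂ : ∃ w ∈ genSub D U V (ψ₁ ≫ φ₁), pr D c (ψ₁ ≫ φ₁) (U ⊓ V) w = pr D c φ₂ (U ⊓ V) w₂ := by
        rw [e]; exact ⟨_, tr_mem D U V φ₂ ψ₂ hw₂, pr_tr D c φ₂ ψ₂ _ w₂⟩
      obtain ⟨w, hw, hw'⟩ := h₂
      exact ⟨m, ψ₁ ≫ φ₁, _, mul_mem (tr_mem D U V φ₁ ψ₁ hw₁) hw, by rw [map_mul, pr_tr, hw']⟩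
  -- monotonicity
  have mono : ∀ {l m : I} (φ : l ⟶ k) (ψ : m ⟶ l) (y : Γ(D.obj k, U ⊓ V)),
      (D.map φ).app (U ⊓ V) y ∈ genSub D U V φ → (D.map (ψ ≫ φ)).app (U ⊓ V) y ∈ genSub D U V (ψ ≫ φ) := by
    intro l m φ ψ y hy
    have := tr_mem D U V φ ψ hy
    convert! this using 1
    show _ = ((D.map φ).app (U ⊓ V) ≫ (D.map ψ).appLE _ _ _) y
    rw [Scheme.Hom.app_eq_appLE, Scheme.Hom.app_eq_appLE, Scheme.Hom.appLE_comp_appLE]
    simp only [D.map_comp]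
  induction s using Finset.induction with
  | empty => exact ⟨k, 𝟙 k, by simp⟩
  | insert y s _ ih =>
    obtain ⟨l₁, φ₁, h₁⟩ := ih
    obtain ⟨l₂, φ₂, w, hw, hw'⟩ := lift ((c.π.app k).app (U ⊓ V) y)
    have hcpt : IsCompact ((D.map φ₂ ⁻¹ᵁ (U ⊓ V) : (D.obj l₂).Opens) : Set (D.obj l₂)) := (hUV.preimage _).isCompact
    obtain ⟨l₃, ψ, hψ⟩ := exists_app_map_eq_map_of_isLimit D c hc hcpt w ((D.map φ₂).app (U ⊓ V) y) (by
      have h : (c.π.app l₂).app (D.map φ₂ ⁻¹ᵁ (U ⊓ V)) ≫ c.pt.presheaf.map (eqToHom (by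
          rw [← Scheme.Hom.comp_preimage, c.w])).op =
          CommRingCat.ofHom (pr D c φ₂ (U ⊓ V)) := by
        simp [Scheme.Hom.app_eq_appLE, Scheme.Hom.appLE_map]
      apply (ConcreteCategory.bijective_of_isIso (c.pt.presheaf.map (eqToHom (show c.π.app k ⁻¹ᵁ (U ⊓ V) =
          c.π.app l₂ ⁻¹ᵁ (D.map φ₂ ⁻¹ᵁ (U ⊓ V)) by rw [← Scheme.Hom.comp_preimage, c.w])).op)).1
      refine ((ConcreteCategory.congr_hom h w).trans hw').trans ?_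
      refine Eq.trans ?_ (ConcreteCategory.congr_hom h ((D.map φ₂).app (U ⊓ V) y)).symm
      show _ = ((D.map φ₂).app (U ⊓ V) ≫ (c.π.app l₂).appLE _ _ _) y
      rw [Scheme.Hom.app_eq_appLE, Scheme.Hom.app_eq_appLE, Scheme.Hom.appLE_comp_appLE]
      simp only [c.w])
    have hy : (D.map (ψ ≫ φ₂)).app (U ⊓ V) y ∈ genSub D U V (ψ ≫ φ₂) := by
      have := tr_mem D U V φ₂ ψ hw
      convert! this using 1
      have h4 : ∀ x, tr D φ₂ ψ (U ⊓ V) x =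
          (D.obj l₃).presheaf.map (eqToHom (preimage_comp D φ₂ ψ (U ⊓ V))).op ((D.map ψ).app _ x) := fun x => rfl
      rw [h4, hψ, ← h4]
      show _ = ((D.map φ₂).app (U ⊓ V) ≫ (D.map ψ).appLE _ _ _) y
      rw [Scheme.Hom.app_eq_appLE, Scheme.Hom.app_eq_appLE, Scheme.Hom.appLE_comp_appLE]
      simp only [D.map_comp]
    obtain ⟨m, a, b, e⟩ := IsCofiltered.cospan φ₁ (ψ ≫ φ₂)
    refine ⟨m, a ≫ φ₁, fun z hz => ?_⟩
    rcases Finset.mem_insert.1 hz with rfl | hz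
    · rw [e]; exact mono _ b z hy
    · exact mono _ a z (h₁ z hz)

end pair

include hc in
theorem exists_isSeparated [∀ i, CompactSpace (D.obj i)] [∀ i, QuasiSeparatedSpace (D.obj i)] [c.pt.IsSeparated] :
    ∃ i, (D.obj i).IsSeparated := by
  classical
  obtain ⟨i, s, V₀, hV₀, hV₀'⟩ := Scheme.exists_isOpenCover_and_isAffine D c hc (fun U : c.pt.affineOpens => U.1)
    (iSup_affineOpens_eq_top _) fun U => U.2
  haveI : ∀ i, IsAffineHom (c.π.app i) := fun i => isAffineHom_π_app _ _ hc i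
  -- make the intersections affine
  have step : ∀ p : s × s, ∃ (j : I) (g : j ⟶ i), IsAffineOpen (D.map g ⁻¹ᵁ (V₀ p.1 ⊓ V₀ p.2)) := by
    rintro ⟨a, b⟩
    set U := V₀ a ⊓ V₀ b
    have hUc : IsCompact (U : Set (D.obj i)) :=
      QuasiSeparatedSpace.inter_isCompact _ _ (V₀ a).2 (hV₀' a).1.isCompact (V₀ b).2 (hV₀' b).1.isCompact
    have (j : Over i) : CompactSpace ((opensDiagram D i U).obj j) :=
      isCompact_iff_compactSpace.mp (QuasiCompact.isCompact_preimage _ U.2 hUc)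
    have (j : Over i) : QuasiSeparatedSpace ((opensDiagram D i U).obj j) :=
      (isQuasiSeparated_iff_quasiSeparatedSpace _ (D.map _ ⁻¹ᵁ _).2).mp (.of_quasiSeparatedSpace _)
    haveI : IsAffineHom (pullback.diagonal (terminal.from c.pt)) := inferInstance
    have : IsAffine (opensCone D c i U).pt :=
      IsAffineOpen.inf (X := c.pt) (U := c.π.app i ⁻¹ᵁ V₀ a) (V := c.π.app i ⁻¹ᵁ V₀ b) ((hV₀' a).1.preimage (c.π.app i)) ((hV₀' b).1.preimage (c.π.app i))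
    obtain ⟨j, hj⟩ := Scheme.exists_isAffine_of_isLimit _ _ (isLimitOpensCone D c hc i U)
    exact ⟨j.left, j.hom, hj⟩
  choose J g hg using step
  obtain ⟨k, fk, gk, hk⟩ := IsCofiltered.wideCospan g
  let V : s → (D.obj k).Opens := fun a => D.map fk ⁻¹ᵁ V₀ a
  have hVA : ∀ a, IsAffineOpen (V a) := fun a => (hV₀' a).1.preimage _
  have hVI : ∀ a b, IsAffineOpen (V a ⊓ V b) := fun a b => by
    have := (hg (a, b)).preimage (D.map (gk (a, b)))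
    rw [← Scheme.Hom.comp_preimage, ← D.map_comp, hk] at this
    exact this
  choose gens hgens using fun p : s × s =>
    exists_finite_gen (inf_le_left : V p.1 ⊓ V p.2 ≤ V p.1) (hVA p.1) (hVI p.1 p.2)
  choose L φ hφ using fun p : s × s => exists_mem_genSub D c hc (V p.1) (V p.2) (hVA p.1) (hVA p.2) (hVI p.1 p.2) (gens p)
  obtain ⟨l, fl, gl, hl⟩ := IsCofiltered.wideCospan φ
  refine ⟨l, isSeparated_of_cover (fun a => D.map fl ⁻¹ᵁ V a) ((hV₀.comap (D.map fk).base.hom).comap (D.map fl).base.hom)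
    (fun a => (hVA a).preimage _) fun a b => ⟨(hVI a b).preimage _, ?_⟩⟩
  have hmem : ∀ y ∈ gens (a, b), (D.map fl).app _ y ∈ genSub D (V a) (V b) fl := by
    intro y hy
    have := tr_mem D (V a) (V b) (φ (a, b)) (gl (a, b)) (hφ (a, b) y hy)
    rw [← hl (a, b)]
    convert! this using 1
    show _ = ((D.map (φ (a, b))).app _ ≫ (D.map (gl (a, b))).appLE _ _ _) y
    rw [Scheme.Hom.app_eq_appLE, Scheme.Hom.app_eq_appLE, Scheme.Hom.appLE_comp_appLE]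
    simp only [D.map_comp]
  show genSub D (V a) (V b) fl = ⊤
  refine eq_top_iff.2 ((closure_eq_top_preimage (D.map fl) (inf_le_left : V a ⊓ V b ≤ V a) (hVA a) (hVI a b)).ge.trans
    (Subring.closure_le.2 ?_))
  rintro _ (⟨x, rfl⟩ | ⟨x, rfl⟩)
  · exact Subring.subset_closure (Or.inl ⟨x, rfl⟩)
  · have hx : x ∈ Subring.closure _ := (hgens (a, b)).ge (Subring.mem_top x)
    refine (Subring.closure_le (t := (genSub D (V a) (V b) fl).comap ((D.map fl).app (V a ⊓ V b)).hom)).2 ?_ hx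
    rintro _ (⟨z, rfl⟩ | hz)
    · refine Subring.subset_closure (Or.inl ⟨(D.map fl).app (V a) z, ?_⟩)
      exact (ConcreteCategory.congr_hom ((D.map fl).naturality (homOfLE inf_le_left).op) z).symm
    · exact hmem _ hz

end Groth.Agent.Lead.Lim
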