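import Groth.Agent.Lead.Lim.ClosedFinite
import Groth.Agent.Lead.Lim.EGA
import Groth.Agent.Lead.Lim.Rebase
import Groth.Agent.Mor.Cancel

/-!
Separatedness of a base change is decided at a stage.
-/

set_option autoImplicit false
set_option backward.isDefEq.respectTransparency false
set_option backward.defeqAttrib.useBackward true

open CategoryTheory Limits AlgebraicGeometry TopologicalSpace

universe u

namespace Groth.Agent.Lead.Lim

variable {I : Type u} [SmallCategory I] [IsCofiltered I] (D : I ⥤ Scheme.{u}) (c : Cone D) (hc : IsLimit c)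
  [∀ (i j : I) (f : i ⟶ j), IsAffineHom (D.map f)]

include hc in
theorem exists_isSeparated_stage (i₀ : I) {X₀ Y₀ : Scheme.{u}} (f₀ : X₀ ⟶ Y₀) (g₀ : Y₀ ⟶ D.obj i₀) [CompactSpace Y₀]
    [LocallyOfFiniteType f₀] [QuasiCompact f₀] [QuasiSeparated f₀]
    {X Y : Scheme.{u}} {f : X ⟶ Y} {g : Y ⟶ c.pt} {qY : Y ⟶ Y₀} {qX : X ⟶ X₀}
    (hY : IsPullback qY g g₀ (c.π.app i₀)) (hX : IsPullback qX f f₀ qY) [IsSeparated f] :
    ∃ (i : I) (φ : i ⟶ i₀), IsSeparated (pullback.snd f₀ (pullback.fst g₀ (D.map φ))) := by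
  haveI : CompactSpace X₀ := QuasiCompact.compactSpace_of_compactSpace f₀
  haveI : CompactSpace ↥(pullback f₀ f₀) := QuasiCompact.compactSpace_of_compactSpace (pullback.fst f₀ f₀)
  haveI := Mor.Cancel.locallyOfFinitePresentation_diagonal f₀
  haveI : QuasiCompact (pullback.diagonal f₀) := QuasiSeparated.quasiCompact_diagonal
  obtain ⟨i, φ, h⟩ := exists_descend_over D c hc @IsClosedImmersion @LocallyOfFiniteType i₀ (pullback.diagonal f₀)
    (pullback.fst f₀ f₀ ≫ f₀ ≫ g₀) inferInstance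
    (fun E cE hE _ a₀ _ _ h₀ _ _ _ _ hh => exists_isClosedImmersion_descend E cE hE a₀ h₀ hh)
    ((isPullback_fstMap hX).paste_vert (hX.paste_vert hY)) (isPullback_diagMap hX)
    (show IsClosedImmersion (pullback.diagonal f) from IsSeparated.isClosedImmersion_diagonal)
  refine ⟨i, φ, ⟨?_⟩⟩
  have hi : IsPullback (pullback.fst f₀ (pullback.fst g₀ (D.map φ))) (pullback.snd f₀ (pullback.fst g₀ (D.map φ))) f₀
      (pullback.fst g₀ (D.map φ)) := IsPullback.of_hasPullback _ _
  let Wi := (isPullback_fstMap hi).paste_vert (hi.paste_vert (IsPullback.of_hasPullback g₀ (D.map φ)))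
  refine of_factor @IsClosedImmersion (pullback.diagonal f₀) (pullback.fst (pullback.fst f₀ f₀ ≫ f₀ ≫ g₀) (D.map φ))
    (by rw [← pullbackSymmetry_hom_comp_snd (pullback.fst (pullback.fst f₀ f₀ ≫ f₀ ≫ g₀) (D.map φ))]; infer_instance)
    Wi.isoPullback.hom (q := pullback.fst f₀ (pullback.fst g₀ (D.map φ))) ?_
  rw [IsPullback.isoPullback_hom_fst]
  exact isPullback_diagMap hi

end Groth.Agent.Lead.Lim
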