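import Groth.Agent.Lead.Lim.Separated
import Groth.Agent.Lead.Lim.Closed
import Groth.Agent.Lim.Topo
import Mathlib.AlgebraicGeometry.Morphisms.Immersion

/-!
Properties of structure maps descend along limits.
-/

set_option autoImplicit false

open CategoryTheory Limits AlgebraicGeometry TopologicalSpace

universe u

namespace Groth.Agent.Lead.Lim

theorem exists_qc_open {X S : Scheme.{u}} [CompactSpace X] (f : X ⟶ S) (U : S.Opens) (h : f ⁻¹ᵁ U = ⊤) :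
    ∃ U' : S.Opens, U' ≤ U ∧ IsCompact (U' : Set S) ∧ Set.range f ⊆ U' := by
  have hx : ∀ x : X, ∃ W : S.Opens, IsAffineOpen W ∧ f x ∈ W ∧ W ≤ U := by
    intro x
    obtain ⟨_, ⟨W, hW, rfl⟩, hxW, hWU⟩ := S.isBasis_affineOpens.exists_subset_of_mem_open
      (show f x ∈ (U : Set S) from h.ge (Set.mem_univ x)) U.2
    exact ⟨W, hW, hxW, hWU⟩
  choose W hW hxW hWU using hx
  obtain ⟨T, hT⟩ := isCompact_univ.elim_finite_subcover (fun x : X => ((f ⁻¹ᵁ W x : X.Opens) : Set X))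
    (fun x => (f ⁻¹ᵁ W x).2) (fun x _ => Set.mem_iUnion.2 ⟨x, hxW x⟩)
  refine ⟨⨆ x ∈ T, W x, iSup₂_le fun x _ => hWU x, ?_, ?_⟩
  · simp only [Opens.coe_iSup]
    exact T.finite_toSet.isCompact_biUnion fun x _ => (hW x).isCompact
  · rintro _ ⟨z, rfl⟩
    obtain ⟨x, hx, hzx⟩ := Set.mem_iUnion₂.1 (hT (Set.mem_univ z))
    exact Opens.mem_iSup.2 ⟨x, Opens.mem_iSup.2 ⟨hx, hzx⟩⟩

variable {I : Type u} [Category.{u} I] [IsCofiltered I] (D : I ⥤ Scheme.{u}) (c : Cone D) (hc : IsLimit c)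
  [∀ {i j : I} (f : i ⟶ j), IsAffineHom (D.map f)]

include hc in
theorem exists_isAffineHom_structure [∀ i, CompactSpace (D.obj i)] [∀ i, QuasiSeparatedSpace (D.obj i)]
    {S : Scheme.{u}} [CompactSpace S] [QuasiSeparatedSpace S] (i₀ : I) (t₀ : D.obj i₀ ⟶ S)
    [IsAffineHom (c.π.app i₀ ≫ t₀)] :
    ∃ (i : I) (φ : i ⟶ i₀), IsAffineHom (D.map φ ≫ t₀) := by
  classical
  obtain ⟨T, hTfin, hT⟩ : ∃ T : Set S.affineOpens, T.Finite ∧ ∀ z : S, ∃ W ∈ T, z ∈ (W : S.affineOpens).1 := by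
    obtain ⟨T, hT⟩ := isCompact_univ.elim_finite_subcover (fun W : S.affineOpens => ((W.1 : S.Opens) : Set S))
      (fun W => W.1.2) (fun z _ => by
        obtain ⟨_, ⟨W, hW, rfl⟩, hzW, -⟩ := S.isBasis_affineOpens.exists_subset_of_mem_open (Set.mem_univ z) isOpen_univ
        exact Set.mem_iUnion.2 ⟨⟨W, hW⟩, hzW⟩)
    exact ⟨T, T.finite_toSet, fun z => by simpa using Set.mem_iUnion₂.1 (hT (Set.mem_univ z))⟩
  haveI : Finite T := hTfin
  haveI : QuasiCompact t₀ := inferInstance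
  have step : ∀ W : T, ∃ (j : I) (φ : j ⟶ i₀), IsAffineOpen (D.map φ ⁻¹ᵁ (t₀ ⁻¹ᵁ W.1.1)) := by
    intro W
    set Z := t₀ ⁻¹ᵁ W.1.1
    have hZc : IsCompact (Z : Set (D.obj i₀)) := QuasiCompact.isCompact_preimage _ W.1.1.2 W.1.2.isCompact
    have (j : Over i₀) : CompactSpace ((opensDiagram D i₀ Z).obj j) :=
      isCompact_iff_compactSpace.mp (QuasiCompact.isCompact_preimage _ Z.2 hZc)
    have (j : Over i₀) : QuasiSeparatedSpace ((opensDiagram D i₀ Z).obj j) :=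
      (isQuasiSeparated_iff_quasiSeparatedSpace _ (D.map _ ⁻¹ᵁ _).2).mp (.of_quasiSeparatedSpace _)
    have : IsAffine (opensCone D c i₀ Z).pt := W.1.2.preimage (c.π.app i₀ ≫ t₀)
    obtain ⟨j, hj⟩ := Scheme.exists_isAffine_of_isLimit _ _ (isLimitOpensCone D c hc i₀ Z)
    exact ⟨j.left, j.hom, hj⟩
  choose J φ hφ using step
  obtain ⟨k, fk, gk, hk⟩ := IsCofiltered.wideCospan φ
  refine ⟨k, fk, isAffineHom_of_forall_exists_isAffineOpen _ fun z => ?_⟩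
  obtain ⟨W, hW, hz⟩ := hT z
  refine ⟨W.1, hz, W.2, ?_⟩
  have := (hφ ⟨W, hW⟩).preimage (D.map (gk ⟨W, hW⟩))
  rwa [← Scheme.Hom.comp_preimage, ← D.map_comp, hk] at this

include hc in
theorem exists_isSeparated_structure_aux [∀ i, CompactSpace (D.obj i)] [∀ i, QuasiSeparatedSpace (D.obj i)]
    {S : Scheme.{u}} [CompactSpace S] [QuasiSeparatedSpace S] (i₀ : I) (t₀ : D.obj i₀ ⟶ S)
    [IsSeparated (c.π.app i₀ ≫ t₀)] :
    ∃ (i : I) (φ : i ⟶ i₀), IsSeparated (D.map φ ≫ t₀) := by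
  classical
  obtain ⟨T, hTfin, hT⟩ : ∃ T : Set S.affineOpens, T.Finite ∧ ∀ z : S, ∃ W ∈ T, z ∈ (W : S.affineOpens).1 := by
    obtain ⟨T, hT⟩ := isCompact_univ.elim_finite_subcover (fun W : S.affineOpens => ((W.1 : S.Opens) : Set S))
      (fun W => W.1.2) (fun z _ => by
        obtain ⟨_, ⟨W, hW, rfl⟩, hzW, -⟩ := S.isBasis_affineOpens.exists_subset_of_mem_open (Set.mem_univ z) isOpen_univ
        exact Set.mem_iUnion.2 ⟨⟨W, hW⟩, hzW⟩)
    exact ⟨T, T.finite_toSet, fun z => by simpa using Set.mem_iUnion₂.1 (hT (Set.mem_univ z))⟩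
  haveI : Finite T := hTfin
  haveI : QuasiCompact t₀ := inferInstance
  have step : ∀ W : T, ∃ (j : I) (φ : j ⟶ i₀), ((D.map φ ⁻¹ᵁ (t₀ ⁻¹ᵁ W.1.1) : (D.obj j).Opens) : Scheme.{u}).IsSeparated := by
    intro W
    set Z := t₀ ⁻¹ᵁ W.1.1
    have hZc : IsCompact (Z : Set (D.obj i₀)) := QuasiCompact.isCompact_preimage _ W.1.1.2 W.1.2.isCompact
    have (j : Over i₀) : CompactSpace ((opensDiagram D i₀ Z).obj j) :=
      isCompact_iff_compactSpace.mp (QuasiCompact.isCompact_preimage _ Z.2 hZc)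
    have (j : Over i₀) : QuasiSeparatedSpace ((opensDiagram D i₀ Z).obj j) :=
      (isQuasiSeparated_iff_quasiSeparatedSpace _ (D.map _ ⁻¹ᵁ _).2).mp (.of_quasiSeparatedSpace _)
    have hW : IsAffine (W.1.1 : Scheme.{u}) := W.1.2
    have : (opensCone D c i₀ Z).pt.IsSeparated := by
      refine ⟨?_⟩
      show IsSeparated (terminal.from (((c.π.app i₀ ≫ t₀) ⁻¹ᵁ W.1.1 : c.pt.Opens) : Scheme.{u}))
      rw [show terminal.from _ = ((c.π.app i₀ ≫ t₀) ∣_ W.1.1) ≫ terminal.from (W.1.1 : Scheme.{u}) from terminal.hom_ext _ _]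
      infer_instance
    obtain ⟨j, hj⟩ := exists_isSeparated _ _ (isLimitOpensCone D c hc i₀ Z)
    exact ⟨j.left, j.hom, hj⟩
  choose J φ hφ using step
  obtain ⟨k, fk, gk, hk⟩ := IsCofiltered.wideCospan φ
  refine ⟨k, fk, IsZariskiLocalAtTarget.of_iSup_eq_top (fun W : T => W.1.1) (eq_top_iff.2 fun z _ => by
      obtain ⟨W, hW, hz⟩ := hT z
      exact Opens.mem_iSup.2 ⟨⟨W, hW⟩, hz⟩) fun W => ?_⟩
  have hW : IsAffine (W.1.1 : Scheme.{u}) := W.1.2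
  have := hφ W
  have hle : (D.map fk ≫ t₀) ⁻¹ᵁ W.1.1 ≤ D.map (gk W) ⁻¹ᵁ (D.map (φ W) ⁻¹ᵁ (t₀ ⁻¹ᵁ W.1.1)) := by
    rw [← Scheme.Hom.comp_preimage (D.map (gk W)), ← D.map_comp, hk]; rfl
  have hsep : ((((D.map fk ≫ t₀) ⁻¹ᵁ W.1.1) : (D.obj k).Opens) : Scheme.{u}).IsSeparated := by
    refine ⟨?_⟩
    rw [show terminal.from _ = ((D.obj k).homOfLE hle ≫ (D.map (gk W) ∣_ (D.map (φ W) ⁻¹ᵁ (t₀ ⁻¹ᵁ W.1.1)))) ≫
      terminal.from _ from terminal.hom_ext _ _]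
    infer_instance
  infer_instance

include hc in
theorem exists_isSeparated_structure [∀ i, CompactSpace (D.obj i)] [∀ i, QuasiSeparatedSpace (D.obj i)]
    {S : Scheme.{u}} [QuasiSeparatedSpace S] (i₀ : I) (t₀ : D.obj i₀ ⟶ S)
    [IsSeparated (c.π.app i₀ ≫ t₀)] :
    ∃ (i : I) (φ : i ⟶ i₀), IsSeparated (D.map φ ≫ t₀) := by
  obtain ⟨U, -, hUc, hU⟩ := exists_qc_open t₀ ⊤ rfl
  haveI : CompactSpace (U : Scheme.{u}) := isCompact_iff_compactSpace.mp hUc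
  haveI : QuasiSeparatedSpace (U : Scheme.{u}) :=
    (isQuasiSeparated_iff_quasiSeparatedSpace _ U.2).mp (.of_quasiSeparatedSpace _)
  let t := IsOpenImmersion.lift U.ι t₀ (by rwa [Scheme.Opens.range_ι])
  have ht : t ≫ U.ι = t₀ := IsOpenImmersion.lift_fac _ _ _
  haveI : IsSeparated ((c.π.app i₀ ≫ t) ≫ U.ι) := by rw [Category.assoc, ht]; infer_instance
  haveI := IsSeparated.of_comp (c.π.app i₀ ≫ t) U.ι
  obtain ⟨i, φ, h⟩ := exists_isSeparated_structure_aux D c hc i₀ t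
  exact ⟨i, φ, by rw [← ht, ← Category.assoc]; infer_instance⟩

include hc in
theorem exists_isImmersion_structure [∀ i, CompactSpace (D.obj i)] [∀ i, QuasiSeparatedSpace (D.obj i)]
    (hD : ∀ {i j : I} (f : i ⟶ j), IsClosedImmersion (D.map f))
    {S : Scheme.{u}} [QuasiSeparatedSpace S] (i₀ : I) (t₀ : D.obj i₀ ⟶ S)
    [LocallyOfFiniteType t₀] [IsImmersion (c.π.app i₀ ≫ t₀)] :
    ∃ (i : I) (φ : i ⟶ i₀), IsImmersion (D.map φ ≫ t₀) := by
  let g := c.π.app i₀ ≫ t₀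
  obtain ⟨k, fk, hfk⟩ := exists_map_eq_top D c hc (i := i₀) (t₀ ⁻¹ᵁ g.coborderRange) (by
    rw [← Scheme.Hom.comp_preimage]
    exact eq_top_iff.2 fun x _ => subset_coborder ⟨x, rfl⟩)
  obtain ⟨U, hUle, hUc, hU⟩ := exists_qc_open (D.map fk ≫ t₀) g.coborderRange hfk
  haveI : CompactSpace (U : Scheme.{u}) := isCompact_iff_compactSpace.mp hUc
  haveI : QuasiSeparatedSpace (U : Scheme.{u}) :=
    (isQuasiSeparated_iff_quasiSeparatedSpace _ U.2).mp (.of_quasiSeparatedSpace _)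
  let t := IsOpenImmersion.lift U.ι (D.map fk ≫ t₀) (by rwa [Scheme.Opens.range_ι])
  have ht : t ≫ U.ι = D.map fk ≫ t₀ := IsOpenImmersion.lift_fac _ _ _
  haveI := hD fk
  haveI : LocallyOfFiniteType (t ≫ U.ι) := by rw [ht]; infer_instance
  haveI := locallyOfFiniteType_of_comp t U.ι
  have hg : (c.π.app k ≫ t) ≫ U.ι = g := by rw [Category.assoc, ht, c.w_assoc]
  haveI : IsPreimmersion ((c.π.app k ≫ t) ≫ U.ι) := by rw [hg]; infer_instance
  haveI := IsPreimmersion.of_comp (c.π.app k ≫ t) U.ι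
  haveI : IsClosedImmersion (c.π.app k ≫ t) := by
    refine IsClosedImmersion.of_isPreimmersion _ ?_
    have e : Set.range (c.π.app k ≫ t) = (S.homOfLE hUle) ⁻¹' (Set.range g.liftCoborder) := by
      ext z
      constructor
      · rintro ⟨x, rfl⟩
        refine ⟨x, g.coborderRange.ι.isOpenEmbedding.injective ?_⟩
        rw [← Scheme.Hom.comp_apply, ← Scheme.Hom.comp_apply, Scheme.Hom.liftCoborder_ι, Scheme.homOfLE_ι,
          ← Scheme.Hom.comp_apply, hg]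
      · rintro ⟨x, hx⟩
        refine ⟨x, U.ι.isOpenEmbedding.injective ?_⟩
        have := congr(g.coborderRange.ι $hx)
        rw [← Scheme.Hom.comp_apply, ← Scheme.Hom.comp_apply, Scheme.Hom.liftCoborder_ι, Scheme.homOfLE_ι] at this
        rw [← Scheme.Hom.comp_apply, hg, this]
    rw [e]
    exact (g.liftCoborder.isClosedEmbedding.isClosed_range).preimage (S.homOfLE hUle).continuous
  obtain ⟨i, φ, h⟩ := exists_isClosedImmersion_of_closed D c hc hD k t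
  refine ⟨i, φ ≫ fk, ?_⟩
  rw [D.map_comp, Category.assoc, ← ht, ← Category.assoc]
  infer_instance

end Groth.Agent.Lead.Lim
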